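import Groth.Agent.VarietyLib.GeomPoints
import Groth.Agent.CurveRR24.RatPoint
import Groth.Prelude.Def_Pi1
import Groth.Prelude.Def_CurvBase

/-!
# A Galois extension disconnecting a normal variety meets its field of constants
-/

set_option autoImplicit false
set_option backward.isDefEq.respectTransparency.types false
set_option backward.isDefEq.respectTransparency false

universe u

open CategoryTheory Limits AlgebraicGeometry Set Topology Polynomial TopologicalSpace
open Groth.Agent.VarietyLib

namespace Groth.Agent.QsChow28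

section Fields

variable {k κ L : Type u} [Field k] [Field κ] [Algebra k κ] [Field L] [Algebra k L] [FiniteDimensional k L] [IsGalois k L]

/-- If no nontrivial subfield of `L` maps to `κ`, minimal polynomials from `L` stay irreducible over `κ`. -/
theorem irreducible_map_minpoly_of_bot
    (h : ∀ F : IntermediateField k L, Nonempty (F →ₐ[k] κ) → F = ⊥) (α : L) :
    Irreducible ((minpoly k α).map (algebraMap k κ)) := by
  have hint : IsIntegral k α := Algebra.IsSeparable.isIntegral k α
  have hm : (minpoly k α).Monic := minpoly.monic hint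
  have hirr := minpoly.irreducible hint
  by_contra hred
  have hne1 : (minpoly k α).map (algebraMap k κ) ≠ 1 := fun h1 =>
    hirr.ne_one (Polynomial.map_injective _ (algebraMap k κ).injective (by rw [h1, Polynomial.map_one]))
  rw [Polynomial.Monic.irreducible_iff_natDegree (hm.map _)] at hred
  push Not at hred
  obtain ⟨g, g', hg, hg', hgh, hdeg, hdeg'⟩ := hred hne1
  let σ : L →ₐ[k] AlgebraicClosure κ := IsAlgClosed.lift
  let F : IntermediateField k L := (IsScalarTower.toAlgHom k κ (AlgebraicClosure κ)).fieldRange.comap σ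
  have hF : ∀ l : F, ∃ c : κ, algebraMap κ (AlgebraicClosure κ) c = σ l := fun l => l.2
  choose c hc using hF
  have hi := (algebraMap κ (AlgebraicClosure κ)).injective
  let φ : F →ₐ[k] κ :=
    { toFun := c
      map_one' := hi (by rw [hc, map_one]; exact map_one σ)
      map_mul' := fun a b => hi (by rw [hc, map_mul, hc, hc]; exact map_mul σ _ _)
      map_zero' := hi (by rw [hc, map_zero]; exact map_zero σ)
      map_add' := fun a b => hi (by rw [hc, map_add, hc, hc]; exact map_add σ _ _)
      commutes' := fun r => hi (by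
        rw [hc, ← IsScalarTower.algebraMap_apply]
        exact AlgHom.commutes σ r) }
  have hbot : F = ⊥ := h F ⟨φ⟩
  have hcoef : ∀ i, g.coeff i ∈ Set.range (algebraMap k κ) := fun i => by
    have hsplit : ((minpoly k α).map (algebraMap k L)).Splits := Normal.splits inferInstance α
    have hgT : g.map (algebraMap κ (AlgebraicClosure κ)) ∣
        ((minpoly k α).map (algebraMap k L)).map σ.toRingHom := by
      rw [Polynomial.map_map, AlgHom.toRingHom_eq_coe, AlgHom.comp_algebraMap,
        IsScalarTower.algebraMap_eq k κ (AlgebraicClosure κ), ← Polynomial.map_map]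
      exact Polynomial.map_dvd _ ⟨g', hgh.symm⟩
    have hroots : ∀ r ∈ (g.map (algebraMap κ (AlgebraicClosure κ))).roots, r ∈ σ.fieldRange := fun r hr => by
      have hr' := Multiset.mem_of_le
        (Polynomial.roots.le_of_dvd (Polynomial.map_ne_zero (Polynomial.map_ne_zero hm.ne_zero)) hgT) hr
      rw [hsplit.roots_map] at hr'
      obtain ⟨l, -, rfl⟩ := Multiset.mem_map.1 hr'
      exact ⟨l, rfl⟩
    have hmem : algebraMap κ (AlgebraicClosure κ) (g.coeff i) ∈ σ.fieldRange := by
      rw [← coeff_map, (IsAlgClosed.splits _).eq_prod_roots_of_monic (hg.map _)]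
      have key : ∀ s : Multiset (AlgebraicClosure κ), (∀ r ∈ s, r ∈ σ.fieldRange) →
          ∀ i, ((s.map fun a => X - C a).prod).coeff i ∈ σ.fieldRange := by
        intro s
        induction s using Multiset.induction_on with
        | empty =>
          intro _ i
          simp only [Multiset.map_zero, Multiset.prod_zero, coeff_one]
          split <;> simp [one_mem, zero_mem]
        | cons a s ih =>
          intro hs i
          have ih' := ih fun r hr => hs r (Multiset.mem_cons_of_mem hr)
          simp only [Multiset.map_cons, Multiset.prod_cons, sub_mul, coeff_sub, coeff_C_mul]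
          refine sub_mem ?_ (mul_mem (hs a (Multiset.mem_cons_self a s)) (ih' i))
          cases i with
          | zero => simp [zero_mem]
          | succ i => rw [coeff_X_mul]; exact ih' i
      exact key _ hroots i
    obtain ⟨l, hl⟩ := hmem
    have hlF : l ∈ (⊥ : IntermediateField k L) := hbot ▸ (show l ∈ F from ⟨g.coeff i, hl.symm⟩)
    obtain ⟨r, hr⟩ := IntermediateField.mem_bot.1 hlF
    refine ⟨r, hi ?_⟩
    rw [← IsScalarTower.algebraMap_apply, ← hl, ← hr]
    exact (AlgHom.commutes σ r).symm
  obtain ⟨g₀, hg₀, hd₀, hg₀m⟩ := lifts_and_natDegree_eq_and_monic ((lifts_iff_coeff_lifts g).2 hcoef) hg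
  have hdvd : g₀ ∣ minpoly k α := (Polynomial.map_dvd_map' (algebraMap k κ)).1 (by rw [hg₀]; exact Dvd.intro g' hgh)
  obtain ⟨h', he⟩ := hdvd
  rcases hirr.isUnit_or_isUnit he with hu | hu
  · exact hdeg (by rw [← hd₀]; exact natDegree_eq_zero_of_isUnit hu)
  · refine hdeg' ?_
    have : g' = h'.map (algebraMap k κ) := by
      have := hgh
      rw [he, Polynomial.map_mul, hg₀] at this
      exact mul_left_cancel₀ hg.ne_zero this
    rw [this, natDegree_map]
    exact natDegree_eq_zero_of_isUnit hu

end Fields

variable (k : Type u) [Field k] {X : Scheme.{u}} (f : X ⟶ Spec (CommRingCat.of k))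

/-- If the minimal polynomial of a primitive element stays irreducible at `x`, one point lies over `x`. -/
theorem fst_injOn_fibre_of_irreducible (x : X) {ρ : k →+* X.residueField x}
    (hρ : Spec.map (CommRingCat.ofHom ρ) = X.fromSpecResidueField x ≫ f)
    (L : Type u) [Field L] [Algebra k L] [FiniteDimensional k L] [Algebra.IsSeparable k L]
    (hirr : letI := ρ.toAlgebra; ∀ α : L, Irreducible ((minpoly k α).map (algebraMap k (X.residueField x))))
    {p q : ↥(pullback f (sK k L))} (hp : pullback.fst f (sK k L) p = x) (hq : pullback.fst f (sK k L) q = x) :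
    p = q := by
  let : Algebra k (X.residueField x) := ρ.toAlgebra
  obtain ⟨α, hα⟩ := Field.exists_primitive_element k L
  let φ : Polynomial (X.residueField x) := (minpoly k α).map (algebraMap k (X.residueField x))
  have : Fact (Irreducible φ) := ⟨hirr α⟩
  let F := AdjoinRoot φ
  let : Algebra k F := ((algebraMap (X.residueField x) F).comp (algebraMap k (X.residueField x))).toAlgebra
  -- the map `L → F`
  have hint : IsIntegral k α := Algebra.IsSeparable.isIntegral k α
  let pb : PowerBasis k L := (IntermediateField.adjoin.powerBasis hint).map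
    ((IntermediateField.equivOfEq hα).trans IntermediateField.topEquiv)
  have hpb : minpoly k pb.gen = minpoly k α := by
    simp [pb, IntermediateField.adjoin.powerBasis, IntermediateField.minpoly_gen]
  have hroot : aeval (AdjoinRoot.root φ) (minpoly k pb.gen) = 0 := by
    rw [hpb, aeval_def, RingHom.algebraMap_toAlgebra, ← eval₂_map]
    exact AdjoinRoot.eval₂_root φ
  let ψ : L →ₐ[k] F := pb.lift (AdjoinRoot.root φ) hroot
  let Fc := CommRingCat.of F
  have hcomm : (Spec.map (CommRingCat.ofHom (algebraMap (X.residueField x) F)) ≫ X.fromSpecResidueField x) ≫ f =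
      Spec.map (CommRingCat.ofHom ψ.toRingHom) ≫ sK k L := by
    rw [Category.assoc, ← hρ, ← Spec.map_comp, ← Spec.map_comp, ← CommRingCat.ofHom_comp, ← CommRingCat.ofHom_comp]
    congr 2
    exact ψ.comp_algebraMap.symm
  let pt : Spec Fc ⟶ pullback f (sK k L) := pullback.lift _ _ hcomm
  suffices H : ∀ p : ↥(pullback f (sK k L)), pullback.fst f (sK k L) p = x → p = pt (IsLocalRing.closedPoint F) by
    rw [H p hp, H q hq]
  intro p hp
  subst hp
  let P := pullback f (sK k L)
  let Ω := P.residueField p
  let ιE : X.residueField (pullback.fst f (sK k L) p) ⟶ Ω := (pullback.fst f (sK k L)).residueFieldMap p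
  obtain ⟨β, hβ⟩ := Spec.map_surjective (P.fromSpecResidueField p ≫ pullback.snd f (sK k L))
  have hfst : P.fromSpecResidueField p ≫ pullback.fst f (sK k L) =
      Spec.map ιE ≫ X.fromSpecResidueField _ :=
    (Scheme.Hom.SpecMap_residueFieldMap_fromSpecResidueField _ p).symm
  have hk : CommRingCat.ofHom ρ ≫ ιE = CommRingCat.ofHom (algebraMap k L) ≫ β := by
    apply Spec.map_injective
    rw [Spec.map_comp, Spec.map_comp, hρ, hβ, ← Category.assoc, ← hfst, Category.assoc, Category.assoc,
      pullback.condition]
  have hev : φ.eval₂ ιE.hom (β.hom pb.gen) = 0 := by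
    have e : ιE.hom.comp ρ = β.hom.comp (algebraMap k L) := congrArg CommRingCat.Hom.hom hk
    rw [eval₂_map, RingHom.algebraMap_toAlgebra, e, ← hom_eval₂]
    have : eval₂ (algebraMap k L) pb.gen (minpoly k α) = 0 := by rw [← hpb]; exact minpoly.aeval k pb.gen
    rw [this, map_zero]
  let θ : F →+* Ω := AdjoinRoot.lift ιE.hom (β.hom pb.gen) hev
  have hθ1 : CommRingCat.ofHom (algebraMap (X.residueField (pullback.fst f (sK k L) p)) F) ≫ CommRingCat.ofHom θ = ιE := by
    ext e
    exact AdjoinRoot.lift_of hev
  have hθ2 : CommRingCat.ofHom ψ.toRingHom ≫ CommRingCat.ofHom θ = β := by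
    ext l
    let A : Algebra k Ω := (β.hom.comp (algebraMap k L)).toAlgebra
    let θ' : F →ₐ[k] Ω :=
      { θ with commutes' := fun c => (AdjoinRoot.lift_of hev).trans (congr($(hk).hom c)) }
    let β' : L →ₐ[k] Ω := { β.hom with commutes' := fun c => rfl }
    have : θ'.comp ψ = β' := pb.algHom_ext ((congrArg θ' (pb.lift_gen _ hroot)).trans (AdjoinRoot.lift_root hev))
    exact AlgHom.congr_fun this l
  have : Spec.map (CommRingCat.ofHom θ) ≫ pt = P.fromSpecResidueField p := by
    apply pullback.hom_ext
    · rw [Category.assoc, pullback.lift_fst, ← Category.assoc, ← Spec.map_comp, hθ1, hfst]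
    · rw [Category.assoc, pullback.lift_snd, ← Spec.map_comp, hθ2, hβ]
  have h := congr(($this) (IsLocalRing.closedPoint Ω))
  rw [Scheme.Hom.comp_apply, P.fromSpecResidueField_apply] at h
  exact h.symm.trans (congrArg pt (Subsingleton.elim (α := PrimeSpectrum F) _ _))

omit k f in
/-- A function integral over a subfield of constants on a normal integral scheme is regular. -/
theorem exists_germ_eq_of_isIntegral [IsIntegral X] (hX : Pi1.IsNormalScheme X) {A : Type u} [CommRing A]
    (a : A →+* Γ(X, ⊤)) (c : X.functionField)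
    (hc : ((X.presheaf.germ ⊤ (genericPoint X) trivial).hom.comp a).IsIntegralElem c) :
    ∃ s : Γ(X, ⊤), X.presheaf.germ ⊤ (genericPoint X) trivial s = c := by
  have hloc : ∀ x : X, ∃ (U : X.Opens) (hxU : x ∈ U) (s : Γ(X, U)),
      X.presheaf.germ U (genericPoint X) ((genericPoint_specializes x).mem_open U.isOpen hxU) s = c := fun x => by
    haveI := (hX x).1
    haveI := (hX x).2
    have hint : IsIntegral (X.presheaf.stalk x) c := by
      obtain ⟨P, hP, hPc⟩ := hc
      refine ⟨P.map ((X.presheaf.germ ⊤ x trivial).hom.comp a), hP.map _, ?_⟩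
      rw [eval₂_map]
      refine Eq.trans (congrArg (fun r => eval₂ r c P) ?_) hPc
      ext b
      exact congr($(X.presheaf.germ_stalkSpecializes (U := ⊤) (h := (genericPoint_specializes x)) trivial) (a b))
    obtain ⟨y, hy⟩ := IsIntegrallyClosed.isIntegral_iff.1 hint
    obtain ⟨U, hxU, s, rfl⟩ := X.presheaf.germ_exist (x := x) y
    exact ⟨U, hxU, s, (congr($(X.presheaf.germ_stalkSpecializes (h := (genericPoint_specializes x)) hxU) s)).symm.trans hy⟩
  choose U hxU s hs using hloc
  obtain ⟨t, ht, -⟩ := X.sheaf.existsUnique_gluing' U ⊤ (fun x => homOfLE le_top)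
    (fun x _ => Opens.mem_iSup.2 ⟨x, hxU x⟩) s fun i j => by
      refine germ_injective_of_isIntegral X (genericPoint X) (by exact ⟨(genericPoint_specializes i).mem_open (U i).isOpen (hxU i),
        (genericPoint_specializes j).mem_open (U j).isOpen (hxU j)⟩) ?_
      erw [TopCat.Presheaf.germ_res_apply, TopCat.Presheaf.germ_res_apply]
      exact (hs i).trans (hs j).symm
  refine ⟨t, ?_⟩
  rw [← hs (genericPoint X), ← ht (genericPoint X)]
  exact (TopCat.Presheaf.germ_res_apply _ _ _ _ _).symm

/-- If a finite Galois base change of a normal irreducible scheme is reducible, the scheme lives over a larger field. -/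
theorem exists_factor (L : Type u) [Field L] [Algebra k L] [FiniteDimensional k L] [IsGalois k L]
    [IrreducibleSpace X] (hX : Pi1.IsNormalScheme X) (hred : ¬ IrreducibleSpace ↥(pullback f (sK k L))) :
    ∃ F : IntermediateField k L, F ≠ ⊥ ∧
      ∃ g : X ⟶ Spec (CommRingCat.of F), g ≫ Spec.map (CommRingCat.ofHom (algebraMap k F)) = f := by
  haveI : IsReduced X := (haveI := fun x => (hX x).1; isReduced_of_isReduced_stalk X)
  haveI : IsIntegral X := isIntegral_of_irreducibleSpace_of_isReduced X
  obtain ⟨ψ, hψ⟩ : ∃ ψ : k →+* Γ(X, ⊤), X.toSpecΓ ≫ Spec.map (CommRingCat.ofHom ψ) = f :=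
    ⟨((ΓSpec.adjunction.homEquiv X (Opposite.op (CommRingCat.of k))).symm f).unop.hom,
      (ΓSpec.adjunction.homEquiv X (Opposite.op (CommRingCat.of k))).apply_symm_apply f⟩
  let η := genericPoint X
  let r : Γ(X, ⊤) →+* X.residueField η := (X.residue η).hom.comp (X.presheaf.germ ⊤ η trivial).hom
  let ρ : k →+* X.residueField η := r.comp ψ
  have hρ : Spec.map (CommRingCat.ofHom ρ) = X.fromSpecResidueField η ≫ f := by
    rw [← hψ, ← Category.assoc]
    show _ = ((Spec.map (X.residue η) ≫ X.fromSpecStalk η) ≫ X.toSpecΓ) ≫ _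
    rw [Category.assoc (Spec.map _), Scheme.fromSpecStalk_toSpecΓ, ← Spec.map_comp, ← Spec.map_comp]
    rfl
  let _ := ρ.toAlgebra
  by_cases h : ∀ F : IntermediateField k L, Nonempty (F →ₐ[k] X.residueField η) → F = ⊥
  · refine absurd ?_ hred
    have hirr := fun α : L => irreducible_map_minpoly_of_bot h α
    obtain ⟨y, -⟩ := surjective_fst k f (L := L) η
    obtain ⟨ζ, hζ, -⟩ := exists_genericPoints_specializes y
    refine (irreducibleSpace_def _).2 ?_
    have : (⊤ : Set ↥(pullback f (sK k L))) = closure {ζ} := by
      refine (eq_univ_of_forall fun z => ?_).symm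
      obtain ⟨θ, hθ, hθz⟩ := exists_genericPoints_specializes z
      rw [fst_injOn_fibre_of_irreducible k f η hρ L hirr (p := ζ) (q := θ)
        (eq_genericPoint_of_mem_genericPoints (generalizing_genericPoints (generalizingMap_fst k f L) hζ))
        (eq_genericPoint_of_mem_genericPoints (generalizing_genericPoints (generalizingMap_fst k f L) hθ))]
      exact specializes_iff_mem_closure.1 hθz
    rw [this]
    exact isGenericPoint_closure.isIrreducible
  push Not at h
  obtain ⟨F, ⟨φ⟩, hF⟩ := h
  have hb : Function.Bijective (X.residue (genericPoint X)).hom :=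
    ⟨RingHom.injective (show X.functionField →+* _ from (X.residue (genericPoint X)).hom), X.residue_surjective _⟩
  have hr : Function.Injective r := hb.1.comp (germ_injective_of_isIntegral X (U := ⊤) η trivial)
  have hmem : ∀ l : F, φ l ∈ r.range := fun l => by
    obtain ⟨c, hc⟩ := hb.2 (φ l)
    obtain ⟨P, hP, hPl⟩ := (Algebra.IsIntegral.isIntegral (R := k) l).map φ
    obtain ⟨s, hs⟩ := exists_germ_eq_of_isIntegral hX ψ c ⟨P, hP, hb.1 (by
      rw [map_zero, hom_eval₂, hc]
      exact hPl)⟩
    exact ⟨s, (congrArg (X.residue η).hom hs).trans hc⟩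
  choose t ht using hmem
  let τ : F →+* Γ(X, ⊤) :=
    { toFun := t
      map_one' := hr (by rw [ht, map_one, map_one])
      map_mul' := fun a b => hr (by rw [ht, map_mul, map_mul, ht, ht])
      map_zero' := hr (by rw [ht, map_zero, map_zero])
      map_add' := fun a b => hr (by rw [ht, map_add, map_add, ht, ht]) }
  refine ⟨F, hF, X.toSpecΓ ≫ Spec.map (CommRingCat.ofHom τ), ?_⟩
  rw [Category.assoc, ← Spec.map_comp, ← hψ, ← CommRingCat.ofHom_comp]
  congr 3
  refine RingHom.ext fun a => hr ?_
  show r (t (algebraMap k F a)) = r (ψ a)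
  rw [ht, AlgHom.commutes]
  rfl

end Groth.Agent.QsChow28
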