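import Mathlib
import Groth.Prelude.Def_W4c4chowquasisplitPn

/-!
# The involution on the truncated algebra `P n` and its fixed subalgebra
-/

set_option autoImplicit false

open MvPolynomial

namespace Groth.Agent.QsChow28

variable {n : ℕ}

theorem numVars_pos (n : ℕ) : 0 < QsChow.numVars n := Nat.succ_pos _

theorem eps_of_fin (i : Fin (QsChow.numVars n)) :
    QsChow.eps n (i.1 + 1) = Ideal.Quotient.mk (QsChow.truncIdeal n) (X i) := by
  rw [QsChow.eps, dif_pos ⟨Nat.succ_pos _, i.2⟩]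
  congr

theorem two_eq_zero : (2 : QsChow.P n) = 0 := by
  have h : algebraMap (ZMod 2) (QsChow.P n) (2 : ZMod 2) = 2 := map_ofNat _ 2
  rw [← h, show (2 : ZMod 2) = 0 from rfl, map_zero]

theorem add_self (x : QsChow.P n) : x + x = 0 := by
  rw [← two_mul, two_eq_zero, zero_mul]

theorem eps_one_pow : QsChow.eps n 1 ^ n = 0 := by
  have h := eps_of_fin (n := n) ⟨0, numVars_pos n⟩
  rw [Nat.zero_add] at h
  rw [h, ← map_pow, Ideal.Quotient.eq_zero_iff_mem]
  exact Ideal.subset_span ⟨⟨0, numVars_pos n⟩, by simp [QsChow.bound]⟩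

/-- `ann (ε₁^m) = (ε₁^(n - m))`. -/
theorem exists_of_eps_pow_mul_eq_zero {m : ℕ} {x : QsChow.P n} (hx : QsChow.eps n 1 ^ m * x = 0) :
    ∃ y, x = QsChow.eps n 1 ^ (n - m) * y := by
  obtain ⟨f, rfl⟩ := Ideal.Quotient.mk_surjective x
  let i0 : Fin (QsChow.numVars n) := ⟨0, numVars_pos n⟩
  have he : QsChow.eps n 1 = Ideal.Quotient.mk (QsChow.truncIdeal n) (X i0) := eps_of_fin i0
  rw [he, ← map_pow, ← map_mul, Ideal.Quotient.eq_zero_iff_mem] at hx
  have hspan : QsChow.truncIdeal n = Ideal.span ((fun s => monomial s (1 : ZMod 2)) ''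
      (Set.range fun i : Fin (QsChow.numVars n) => Finsupp.single i (QsChow.bound n i))) := by
    rw [QsChow.truncIdeal, ← Set.range_comp]
    congr 1
    ext1
    simp [Function.comp_def, X_pow_eq_monomial]
  rw [hspan, mem_ideal_span_monomial_image] at hx
  have hf : f ∈ Ideal.span ((fun s => monomial s (1 : ZMod 2)) ''
      ({Finsupp.single i0 (n - m)} ∪ Set.range fun i : Fin (QsChow.numVars n) => Finsupp.single i (QsChow.bound n i))) := by
    rw [mem_ideal_span_monomial_image]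
    intro d hd
    have hmem : Finsupp.single i0 m + d ∈ (X i0 ^ m * f).support := by
      rw [mem_support_iff, X_pow_eq_monomial, coeff_monomial_mul, one_mul]
      exact mem_support_iff.mp hd
    obtain ⟨s, ⟨i, rfl⟩, hle⟩ := hx _ hmem
    by_cases hi : i = i0
    · refine ⟨_, Or.inl rfl, Finsupp.single_le_iff.mpr ?_⟩
      have h1 := hle i
      subst hi
      simp [QsChow.bound, i0] at h1
      simp only [i0]
      omega
    · refine ⟨_, Or.inr ⟨i, rfl⟩, Finsupp.single_le_iff.mpr ?_⟩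
      have h1 := hle i
      simpa [Finsupp.single_apply, Ne.symm hi] using h1
  rw [Set.image_union, Set.image_singleton, Ideal.span_union, ← hspan, ← X_pow_eq_monomial, Submodule.mem_sup] at hf
  obtain ⟨a, ha, b, hb, rfl⟩ := hf
  obtain ⟨c, rfl⟩ := Ideal.mem_span_singleton.mp ha
  refine ⟨Ideal.Quotient.mk _ c, ?_⟩
  rw [he, ← map_pow, ← map_mul, map_add, Ideal.Quotient.eq_zero_iff_mem.mpr hb, add_zero]

section tau

variable (hn : 2 ≤ n) (τ : QsChow.P n →ₐ[ZMod 2] QsChow.P n) (hτ1 : τ (QsChow.eps n 1) = QsChow.eps n 1)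
  (hτ : ∀ j : ℕ, 2 ≤ j → j ≤ QsChow.numVars n →
    τ (QsChow.eps n j) = QsChow.eps n j + QsChow.eps n 1 ^ (2 * j - 3))

include hn hτ in
theorem tau_eps_two : τ (QsChow.eps n 2) = QsChow.eps n 2 + QsChow.eps n 1 := by
  have := hτ 2 le_rfl (by unfold QsChow.numVars; omega)
  simpa using this

include hn hτ1 hτ in
theorem genImage_fixed (o : Option (Fin (QsChow.numVars n))) :
    τ (QsChow.genImage n o) = QsChow.genImage n o := by
  cases o with
  | none =>
    simp only [QsChow.genImage, map_mul, map_pow, hτ1, tau_eps_two hn τ hτ]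
    rw [mul_add, ← pow_succ, show n - 1 + 1 = n by omega, eps_one_pow, add_zero]
  | some i =>
    simp only [QsChow.genImage]
    split_ifs with h0 h1
    · exact hτ1
    · simp only [map_add, map_mul, map_pow, hτ1, tau_eps_two hn τ hτ]
      linear_combination (QsChow.eps n 1 * QsChow.eps n 2 + QsChow.eps n 1 ^ 2) * (two_eq_zero (n := n))
    · simp only [map_add, map_mul, map_pow, hτ1, tau_eps_two hn τ hτ, hτ (i.1 + 1) (by omega) i.2]
      rw [show 2 * (i.1 + 1) - 3 = 2 * (i.1 + 1) - 4 + 1 by omega, pow_succ]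
      linear_combination (QsChow.eps n 1 ^ (2 * (i.1 + 1) - 4) * QsChow.eps n 1) * (two_eq_zero (n := n))

include hn hτ1 hτ in
theorem tau_phi (q : QsChow.FreeE n) : τ (QsChow.phi n q) = QsChow.phi n q := by
  have : τ.comp (QsChow.phi n) = QsChow.phi n := by
    refine MvPolynomial.algHom_ext fun o => ?_
    simp [QsChow.phi, genImage_fixed hn τ hτ1 hτ o]
  exact DFunLike.congr_fun this q

/-- `P = range φ + range φ · ε₂` -/
theorem exists_decomp (hn : 2 ≤ n) (y : QsChow.P n) :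
    ∃ a ∈ (QsChow.phi n).range, ∃ b ∈ (QsChow.phi n).range, y = a + b * QsChow.eps n 2 := by
  have hgen : ∀ o, QsChow.genImage n o ∈ (QsChow.phi n).range := fun o => ⟨X o, by simp [QsChow.phi]⟩
  have he1 : QsChow.eps n 1 ∈ (QsChow.phi n).range := by
    have := hgen (some ⟨0, numVars_pos n⟩)
    simpa [QsChow.genImage] using this
  obtain ⟨f, rfl⟩ := Ideal.Quotient.mk_surjective y
  induction f using MvPolynomial.induction_on with
  | C c =>
    refine ⟨algebraMap (ZMod 2) _ c, Subalgebra.algebraMap_mem _ c, 0, zero_mem _, ?_⟩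
    rw [zero_mul, add_zero]
    rfl
  | add p q hp hq =>
    obtain ⟨a, ha, b, hb, e1⟩ := hp
    obtain ⟨c, hc, d, hd, e2⟩ := hq
    exact ⟨a + c, add_mem ha hc, b + d, add_mem hb hd, by rw [map_add, e1, e2]; ring⟩
  | mul_X p i hp =>
    obtain ⟨a, ha, b, hb, e1⟩ := hp
    have hi : ∃ c ∈ (QsChow.phi n).range, ∃ d ∈ (QsChow.phi n).range,
        Ideal.Quotient.mk (QsChow.truncIdeal n) (X i) = c + d * QsChow.eps n 2 := by
      rw [← eps_of_fin]
      by_cases h0 : i.1 = 0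
      · exact ⟨_, he1, 0, zero_mem _, by rw [h0]; ring⟩
      · by_cases h1 : i.1 = 1
        · exact ⟨0, zero_mem _, 1, one_mem _, by rw [h1]; ring⟩
        · refine ⟨_, hgen (some i), QsChow.eps n 1 ^ (2 * (i.1 + 1) - 4), pow_mem he1 _, ?_⟩
          simp only [QsChow.genImage, if_neg h0, if_neg h1]
          rw [add_assoc, add_self, add_zero]
    obtain ⟨c, hc, d, hd, e2⟩ := hi
    have hu : QsChow.eps n 2 ^ 2 + QsChow.eps n 1 * QsChow.eps n 2 ∈ (QsChow.phi n).range := by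
      have := hgen (some ⟨1, by unfold QsChow.numVars; omega⟩)
      simpa [QsChow.genImage] using this
    refine ⟨a * c + b * d * (QsChow.eps n 2 ^ 2 + QsChow.eps n 1 * QsChow.eps n 2),
      add_mem (mul_mem ha hc) (mul_mem (mul_mem hb hd) hu), a * d + b * c + b * d * QsChow.eps n 1,
      add_mem (add_mem (mul_mem ha hd) (mul_mem hb hc)) (mul_mem (mul_mem hb hd) he1), ?_⟩
    rw [map_mul, e1, e2]
    linear_combination (-(b * d * QsChow.eps n 1 * QsChow.eps n 2)) * (two_eq_zero (n := n))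

include hn hτ1 hτ in
theorem delta_eq {a b : QsChow.P n} (ha : a ∈ (QsChow.phi n).range) (hb : b ∈ (QsChow.phi n).range) :
    (a + b * QsChow.eps n 2) + τ (a + b * QsChow.eps n 2) = QsChow.eps n 1 * b := by
  obtain ⟨p, rfl⟩ := ha
  obtain ⟨q, rfl⟩ := hb
  rw [map_add, map_mul]
  simp only [AlgHom.toRingHom_eq_coe, RingHom.coe_coe]
  rw [tau_phi hn τ hτ1 hτ, tau_phi hn τ hτ1 hτ, tau_eps_two hn τ hτ]
  linear_combination (QsChow.phi n p + QsChow.phi n q * QsChow.eps n 2) * (two_eq_zero (n := n))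

include hn hτ1 hτ in
theorem fixed_of_mem {a : QsChow.P n} (ha : a ∈ (QsChow.phi n).range) : τ a = a := by
  obtain ⟨p, rfl⟩ := ha
  exact tau_phi hn τ hτ1 hτ p

include hn hτ1 hτ in
theorem exists_fixed_decomp {z : QsChow.P n} (hz : τ z = z) :
    ∃ a ∈ (QsChow.phi n).range, ∃ b ∈ (QsChow.phi n).range,
      z = a + b * QsChow.eps n 2 ∧ QsChow.eps n 1 * b = 0 := by
  obtain ⟨a, ha, b, hb, rfl⟩ := exists_decomp hn z
  exact ⟨a, ha, b, hb, rfl, by rw [← delta_eq hn τ hτ1 hτ ha hb, hz, add_self]⟩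

include hn hτ1 hτ in
theorem range_phi_eq : (QsChow.phi n).range = AlgHom.equalizer τ (AlgHom.id (ZMod 2) (QsChow.P n)) := by
  refine le_antisymm (fun a ha => fixed_of_mem hn τ hτ1 hτ ha) fun z hz => ?_
  obtain ⟨a, ha, b, hb, rfl, h0⟩ := exists_fixed_decomp hn τ hτ1 hτ (hz : τ z = z)
  obtain ⟨c, hc⟩ := exists_of_eps_pow_mul_eq_zero (n := n) (m := 1) (x := b) (by simpa using h0)
  obtain ⟨p, hp, q, hq, rfl⟩ := exists_decomp hn c
  refine add_mem ha ?_
  have hx : QsChow.genImage n none ∈ (QsChow.phi n).range := ⟨X none, by simp [QsChow.phi]⟩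
  have hu : QsChow.genImage n (some ⟨1, by unfold QsChow.numVars; omega⟩) ∈ (QsChow.phi n).range :=
    ⟨X (some ⟨1, by unfold QsChow.numVars; omega⟩), by simp [QsChow.phi]⟩
  have he1 : QsChow.eps n 1 ∈ (QsChow.phi n).range :=
    ⟨X (some ⟨0, numVars_pos n⟩), by simp [QsChow.phi, QsChow.genImage]⟩
  have key : b * QsChow.eps n 2 = p * QsChow.genImage n none +
      q * QsChow.eps n 1 ^ (n - 1) * QsChow.genImage n (some ⟨1, by unfold QsChow.numVars; omega⟩) := by
    have h1 : QsChow.eps n 1 ^ (n - 1) * QsChow.eps n 1 = 0 := by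
      rw [← pow_succ, show n - 1 + 1 = n by omega, eps_one_pow]
    simp only [QsChow.genImage, one_ne_zero, if_false, if_true]
    rw [hc]
    linear_combination (-(q * QsChow.eps n 2)) * h1
  rw [key]
  exact add_mem (mul_mem hp hx) (mul_mem (mul_mem hq (pow_mem he1 _)) hu)

include hn hτ1 hτ in
theorem range_delta : Set.range (fun y : QsChow.P n => y + τ y) =
    (fun z : QsChow.P n => QsChow.eps n 1 * z) '' (AlgHom.equalizer τ (AlgHom.id (ZMod 2) (QsChow.P n)) : Set (QsChow.P n)) := by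
  ext w
  constructor
  · rintro ⟨y, rfl⟩
    obtain ⟨a, ha, b, hb, rfl⟩ := exists_decomp hn y
    exact ⟨b, fixed_of_mem hn τ hτ1 hτ hb, (delta_eq hn τ hτ1 hτ ha hb).symm⟩
  · rintro ⟨z, hz, rfl⟩
    obtain ⟨a, ha, b, hb, rfl, h0⟩ := exists_fixed_decomp hn τ hτ1 hτ (hz : τ z = z)
    refine ⟨0 + a * QsChow.eps n 2, (delta_eq hn τ hτ1 hτ (zero_mem _) ha).trans ?_⟩
    show QsChow.eps n 1 * a = QsChow.eps n 1 * (a + b * QsChow.eps n 2)
    linear_combination (-QsChow.eps n 2) * h0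

include hn hτ1 hτ in
theorem delta_mem_pow (m : ℕ) (hm1 : 1 ≤ m) (hmn : m ≤ n) (y : QsChow.P n)
    (hy : y + τ y ∈ Ideal.span ({QsChow.eps n 1 ^ m} : Set (QsChow.P n))) :
    ∃ z : QsChow.P n, τ z = z ∧ y + τ y = QsChow.eps n 1 ^ m * z := by
  induction m, hm1 using Nat.le_induction with
  | base =>
    obtain ⟨z, hz, he⟩ := (range_delta hn τ hτ1 hτ).subset ⟨y, rfl⟩
    exact ⟨z, hz, by rw [pow_one]; exact he.symm⟩
  | succ m hm ih =>
    obtain ⟨v, hv⟩ := Ideal.mem_span_singleton.mp hy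
    obtain ⟨w, hw, he⟩ := ih (by omega) (Ideal.mem_span_singleton.mpr ⟨QsChow.eps n 1 * v, by rw [hv, pow_succ, mul_assoc]⟩)
    obtain ⟨r, hr⟩ := exists_of_eps_pow_mul_eq_zero (m := m) (x := w - QsChow.eps n 1 * v) (by
      rw [mul_sub, ← he, hv, pow_succ, mul_assoc, sub_self])
    obtain ⟨t, ht⟩ : ∃ t, w = QsChow.eps n 1 * t := by
      refine ⟨v + QsChow.eps n 1 ^ (n - m - 1) * r, ?_⟩
      rw [mul_add, ← mul_assoc, ← pow_succ', show n - m - 1 + 1 = n - m by omega, ← hr]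
      ring
    obtain ⟨a, ha, c, hc, rfl⟩ := exists_decomp hn t
    have h1 : w + τ w = QsChow.eps n 1 * (QsChow.eps n 1 * c) := by
      rw [ht, map_mul, hτ1, ← delta_eq hn τ hτ1 hτ ha hc]; ring
    rw [hw, add_self] at h1
    refine ⟨a, fixed_of_mem hn τ hτ1 hτ ha, ?_⟩
    obtain ⟨k, rfl⟩ := Nat.exists_eq_add_of_le hm
    rw [he, ht]
    linear_combination (-(QsChow.eps n 1 ^ k * QsChow.eps n 2)) * h1

end tau

end Groth.Agent.QsChow28
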