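import Mathlib
import Groth.Agent.QsChow28.Fixed

/-!
# The kernel of `phi n`
-/

set_option autoImplicit false

open MvPolynomial

namespace Groth.Agent.QsChow28

variable {n : ℕ}

/-- monomial ideal `(ε₁, ε_j^{N_j})` -/
noncomputable def zeroIdeal (n : ℕ) : Ideal (QsChow.FreeP n) :=
  Ideal.span {(X ⟨0, numVars_pos n⟩ : QsChow.FreeP n)} ⊔ QsChow.truncIdeal n

theorem zeroIdeal_eq (n : ℕ) : zeroIdeal n = Ideal.span ((fun s => monomial s (1 : ZMod 2)) ''
    ({Finsupp.single ⟨0, numVars_pos n⟩ 1} ∪ Set.range fun i : Fin (QsChow.numVars n) => Finsupp.single i (QsChow.bound n i))) := by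
  rw [zeroIdeal, QsChow.truncIdeal, Set.image_union, Set.image_singleton, Ideal.span_union, ← Set.range_comp]
  simp only [Function.comp_def, X_pow_eq_monomial]
  rfl

/-- reduction modulo `ε₁` of the generators -/
noncomputable def chiImage (n : ℕ) : Option (Fin (QsChow.numVars n)) → QsChow.FreeP n
  | none => 0
  | some i => if i.1 = 0 then 0 else X i ^ (if i.1 = 1 then 2 else 1)

/-- `φ` modulo `ε₁` -/
noncomputable def chi (n : ℕ) : QsChow.FreeE n →ₐ[ZMod 2] QsChow.FreeP n := aeval (chiImage n)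

/-- exponents -/
noncomputable def sig (n : ℕ) (d : Option (Fin (QsChow.numVars n)) →₀ ℕ) : Fin (QsChow.numVars n) →₀ ℕ :=
  Finsupp.equivFunOnFinite.symm fun i =>
    if i.1 = 0 then 0 else (if i.1 = 1 then 2 else 1) * d (some i)

theorem chi_monomial (d : Option (Fin (QsChow.numVars n)) →₀ ℕ) (c : ZMod 2) :
    chi n (monomial d c) = if d none = 0 ∧ d (some ⟨0, numVars_pos n⟩) = 0 then monomial (sig n d) c else 0 := by
  classical
  rw [chi, aeval_monomial, Finsupp.prod_fintype _ _ (fun i => pow_zero _), Fintype.prod_option]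
  split_ifs with h
  · rw [h.1, pow_zero, one_mul, monomial_eq, algebraMap_eq, Finsupp.prod_fintype _ _ (fun i => pow_zero _)]
    congr 1
    refine Finset.prod_congr rfl fun i _ => ?_
    by_cases hi : i.1 = 0
    · have : i = ⟨0, numVars_pos n⟩ := Fin.ext hi
      subst this
      simp [sig, chiImage, h.2]
    · simp [sig, chiImage, hi, ← pow_mul]
  · rcases not_and_or.mp h with h | h
    · simp [chiImage, h]
    · rw [Finset.prod_eq_zero (i := ⟨0, numVars_pos n⟩) (Finset.mem_univ _) (by simp [chiImage, h])]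
      simp

theorem sig_inj {d d' : Option (Fin (QsChow.numVars n)) →₀ ℕ} (h : sig n d = sig n d') (hd : d none = 0)
    (hd0 : d (some ⟨0, numVars_pos n⟩) = 0) (hd' : d' none = 0) (hd0' : d' (some ⟨0, numVars_pos n⟩) = 0) : d = d' := by
  ext o
  cases o with
  | none => rw [hd, hd']
  | some i =>
    by_cases hi : i.1 = 0
    · rw [show i = ⟨0, numVars_pos n⟩ from Fin.ext hi, hd0, hd0']
    · have := DFunLike.congr_fun h i
      simp [sig, hi] at this
      split_ifs at this <;> omega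

theorem coeff_chi (p : QsChow.FreeE n) {d : Option (Fin (QsChow.numVars n)) →₀ ℕ} (hd : d none = 0)
    (hd0 : d (some ⟨0, numVars_pos n⟩) = 0) : (chi n p).coeff (sig n d) = p.coeff d := by
  classical
  induction p using MvPolynomial.induction_on' with
  | monomial a c =>
    rw [chi_monomial, coeff_monomial]
    by_cases ha : a none = 0 ∧ a (some ⟨0, numVars_pos n⟩) = 0
    · rw [if_pos ha, coeff_monomial]
      by_cases he : a = d
      · rw [he, if_pos rfl, if_pos rfl]
      · rw [if_neg he, if_neg fun h => he (sig_inj h ha.1 ha.2 hd hd0)]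
    · rw [if_neg ha, coeff_zero, if_neg]
      rintro rfl
      exact ha ⟨hd, hd0⟩
  | add p q hp hq => rw [map_add, coeff_add, coeff_add, hp, hq]

theorem mem_support_chi {p : QsChow.FreeE n} {s : Fin (QsChow.numVars n) →₀ ℕ} (hs : s ∈ (chi n p).support) :
    ∃ d, s = sig n d := by
  classical
  rw [p.as_sum, map_sum] at hs
  obtain ⟨d, -, hd⟩ := Finset.mem_biUnion.mp (Finset.mem_of_subset (support_sum ) hs)
  rw [chi_monomial] at hd
  split_ifs at hd with h
  · exact ⟨d, Finset.mem_singleton.mp (support_monomial_subset hd)⟩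
  · simp at hd

theorem chi_sep (hn : 2 ≤ n) {p r : QsChow.FreeE n}
    (h : chi n p + X (⟨1, by unfold QsChow.numVars; omega⟩ : Fin (QsChow.numVars n)) * chi n r ∈ zeroIdeal n)
    (hN : 2 ∣ QsChow.bound n ⟨1, by unfold QsChow.numVars; omega⟩) :
    chi n p ∈ zeroIdeal n ∧ chi n r ∈ zeroIdeal n := by
  classical
  set i1 : Fin (QsChow.numVars n) := ⟨1, by unfold QsChow.numVars; omega⟩ with hi1
  have heven : ∀ (q : QsChow.FreeE n) s, s ∈ (chi n q).support → 2 ∣ s i1 := fun q s hs => by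
    obtain ⟨d, rfl⟩ := mem_support_chi hs
    simp [sig, hi1]
  rw [zeroIdeal_eq, mem_ideal_span_monomial_image] at h
  constructor <;> rw [zeroIdeal_eq, mem_ideal_span_monomial_image] <;> intro s hs
  · refine h s (mem_support_iff.mpr ?_)
    rw [coeff_add, coeff_X_mul', if_pos_or_neg_even (heven r) (heven p s hs)]
    simpa using mem_support_iff.mp hs
  · obtain ⟨t, ht, hle⟩ := h (Finsupp.single i1 1 + s) (mem_support_iff.mpr (by
      rw [coeff_add, coeff_X_mul]
      have h0 : (chi n p).coeff (Finsupp.single i1 1 + s) = 0 := by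
        by_contra h0
        have h1 := heven p _ (mem_support_iff.mpr h0)
        have h2 := heven r s hs
        rw [Finsupp.add_apply, Finsupp.single_eq_same] at h1
        omega
      rw [h0, zero_add]
      exact mem_support_iff.mp hs))
    refine ⟨t, ht, fun i => ?_⟩
    have h1 := hle i
    rw [Finsupp.add_apply] at h1
    by_cases hi : i = i1
    · subst hi
      have h2 := heven r s hs
      have h3 : 2 ∣ t i1 := by
        rcases ht with ht | ⟨j, rfl⟩
        · rw [Set.mem_singleton_iff.mp ht]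
          simp [hi1, Finsupp.single_apply]
        · by_cases hj : j = i1
          · subst hj; simpa [Finsupp.single_apply] using hN
          · simp [Finsupp.single_apply, hj]
      rw [Finsupp.single_eq_same] at h1
      omega
    · simpa [Finsupp.single_apply, Ne.symm hi] using h1
where
  if_pos_or_neg_even {σ : Type} [DecidableEq σ] {f : MvPolynomial σ (ZMod 2)} {i : σ} {s : σ →₀ ℕ}
      (hf : ∀ s, s ∈ f.support → 2 ∣ s i) (hs : 2 ∣ s i) :
      (if i ∈ s.support then f.coeff (s - Finsupp.single i 1) else 0) = 0 := by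
    split_ifs with h
    · by_contra h0
      have h1 := hf _ (mem_support_iff.mpr h0)
      rw [Finsupp.tsub_apply, Finsupp.single_eq_same] at h1
      have := Finsupp.mem_support_iff.mp h
      omega
    · rfl

theorem klog_two_pos (hn : 2 ≤ n) : 1 ≤ QsChow.klog n 2 :=
  Nat.log_pos one_lt_two (by show 2 ≤ (2 * n - 1) / (2 * 2 - 3); simp; omega)

theorem le_pow_klog (hn : 2 ≤ n) {j : ℕ} (hj : 2 ≤ j) : n ≤ (2 * j - 3) * 2 ^ QsChow.klog n j := by
  have h := Nat.lt_pow_succ_log_self one_lt_two ((2 * n - 1) / (2 * j - 3))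
  rw [Nat.div_lt_iff_lt_mul (by omega), pow_succ] at h
  unfold QsChow.klog
  rw [mul_comm (2 * j - 3)]
  rw [mul_right_comm] at h
  omega

theorem evar_of_fin (i : Fin (QsChow.numVars n)) : QsChow.evar n (i.1 + 1) = X (some i) := by
  rw [QsChow.evar, dif_pos ⟨Nat.succ_pos _, i.2⟩]
  congr

theorem evar_one : QsChow.evar n 1 = X (some ⟨0, numVars_pos n⟩) := evar_of_fin ⟨0, numVars_pos n⟩

theorem evar_two (hn : 2 ≤ n) : QsChow.evar n 2 = X (some ⟨1, by unfold QsChow.numVars; omega⟩) :=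
  evar_of_fin ⟨1, by unfold QsChow.numVars; omega⟩

theorem frob (a b : QsChow.P n) (t : ℕ) : (a + b) ^ 2 ^ t = a ^ 2 ^ t + b ^ 2 ^ t := by
  induction t with
  | zero => simp
  | succ t ih =>
    rw [pow_succ, pow_mul, pow_mul, pow_mul, ih]
    linear_combination (a ^ 2 ^ t * b ^ 2 ^ t) * (two_eq_zero (n := n))

theorem sum_telescope (E Y : QsChow.P n) (K : ℕ) :
    ∑ t ∈ Finset.range K, E ^ (2 ^ K - 2 ^ (t + 1)) * (Y ^ 2 + E * Y) ^ 2 ^ t = Y ^ 2 ^ K + E ^ (2 ^ K - 1) * Y := by
  induction K with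
  | zero =>
    rw [Finset.range_zero, Finset.sum_empty, pow_zero, Nat.sub_self, pow_zero, pow_one, one_mul, add_self]
  | succ K ih =>
    rw [Finset.sum_range_succ, Nat.sub_self, pow_zero, one_mul, frob, mul_pow]
    have h : ∑ t ∈ Finset.range K, E ^ (2 ^ (K + 1) - 2 ^ (t + 1)) * (Y ^ 2 + E * Y) ^ 2 ^ t =
        E ^ 2 ^ K * ∑ t ∈ Finset.range K, E ^ (2 ^ K - 2 ^ (t + 1)) * (Y ^ 2 + E * Y) ^ 2 ^ t := by
      rw [Finset.mul_sum]
      refine Finset.sum_congr rfl fun t ht => ?_
      rw [Finset.mem_range] at ht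
      have h1 : 2 ^ (t + 1) ≤ 2 ^ K := Nat.pow_le_pow_right two_pos (by omega)
      rw [← mul_assoc, ← pow_add]
      congr 2
      rw [pow_succ 2 K]
      omega
    rw [h, ih, ← pow_mul, ← pow_succ']
    have h1 : E ^ (2 ^ (K + 1) - 1) = E ^ 2 ^ K * E ^ (2 ^ K - 1) := by
      rw [← pow_add]
      congr 1
      have := Nat.one_le_two_pow (n := K)
      rw [pow_succ]
      omega
    rw [h1]
    linear_combination (E ^ 2 ^ K * Y ^ 2 ^ K) * (two_eq_zero (n := n))

theorem eps_pow_bound (i : Fin (QsChow.numVars n)) : QsChow.eps n (i.1 + 1) ^ QsChow.bound n i = 0 := by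
  rw [eps_of_fin, ← map_pow, Ideal.Quotient.eq_zero_iff_mem]
  exact Ideal.subset_span ⟨i, rfl⟩

theorem phi_evar_one : QsChow.phi n (QsChow.evar n 1) = QsChow.eps n 1 := by
  rw [evar_one, QsChow.phi, aeval_X]
  simp [QsChow.genImage]

theorem phi_evar_two (hn : 2 ≤ n) :
    QsChow.phi n (QsChow.evar n 2) = QsChow.eps n 2 ^ 2 + QsChow.eps n 1 * QsChow.eps n 2 := by
  rw [evar_two hn, QsChow.phi, aeval_X]
  simp [QsChow.genImage]

theorem phi_evar_ge {j : ℕ} (h3 : 3 ≤ j) (hj : j ≤ QsChow.numVars n) :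
    QsChow.phi n (QsChow.evar n j) = QsChow.eps n j + QsChow.eps n 1 ^ (2 * j - 4) * QsChow.eps n 2 := by
  obtain ⟨i, rfl⟩ : ∃ i, j = i + 1 := ⟨j - 1, by omega⟩
  rw [evar_of_fin ⟨i, by omega⟩, QsChow.phi, aeval_X]
  simp [QsChow.genImage, show i ≠ 0 by omega, show i ≠ 1 by omega]

theorem phi_xvar : QsChow.phi n (QsChow.xvar n) = QsChow.eps n 1 ^ (n - 1) * QsChow.eps n 2 := by
  rw [QsChow.xvar, QsChow.phi, aeval_X]
  rfl

theorem phi_sPoly (hn : 2 ≤ n) (j : ℕ) : QsChow.phi n (QsChow.sPoly n j) =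
    QsChow.eps n 2 ^ 2 ^ QsChow.klog n j + QsChow.eps n 1 ^ (2 ^ QsChow.klog n j - 1) * QsChow.eps n 2 := by
  simp only [QsChow.sPoly, map_sum, map_mul, map_pow, phi_evar_one, phi_evar_two hn]
  exact sum_telescope _ _ _

theorem presIdeal_le (hn : 2 ≤ n) : QsChow.presIdeal n ≤ RingHom.ker (QsChow.phi n) := by
  refine Ideal.span_le.mpr ?_
  have hE : QsChow.eps n 1 ^ (n - 1) * QsChow.eps n 1 = 0 := by
    rw [← pow_succ, show n - 1 + 1 = n by omega, eps_one_pow]
  rintro q (hq | ⟨i, rfl⟩)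
  · simp only [Set.mem_insert_iff, Set.mem_singleton_iff] at hq
    rw [SetLike.mem_coe, RingHom.mem_ker]
    rcases hq with rfl | rfl | rfl
    · rw [map_pow, phi_evar_one, eps_one_pow]
    · rw [map_mul, phi_evar_one, phi_xvar]
      linear_combination QsChow.eps n 2 * hE
    · rw [map_pow, phi_xvar]
      obtain ⟨m, hm⟩ := Nat.exists_eq_add_of_le hn
      rw [show n - 1 = m + 1 by omega] at hE ⊢
      linear_combination (QsChow.eps n 1 ^ m * QsChow.eps n 2 ^ 2) * hE
  · rw [SetLike.mem_coe, RingHom.mem_ker]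
    simp only [QsChow.hrel]
    split_ifs with h2 h3
    · have hi : i.1 = 1 := by omega
      have hb := eps_pow_bound i
      simp [QsChow.bound, hi] at hb
      have hle := le_pow_klog hn (j := 2) le_rfl
      simp at hle
      rw [map_add, map_mul, map_pow, phi_evar_one, phi_xvar, phi_sPoly hn, hb, zero_add, ← mul_assoc, ← pow_add,
        show 2 ^ QsChow.klog n 2 - n + (n - 1) = 2 ^ QsChow.klog n 2 - 1 by omega, add_self]
    · obtain ⟨j, hj⟩ : ∃ j, j = i.1 + 1 := ⟨_, rfl⟩
      rw [← hj] at h2 h3 ⊢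
      have hb := eps_pow_bound i
      simp only [QsChow.bound, show i.1 ≠ 0 by omega, if_false, ← hj] at hb
      have hle := le_pow_klog hn (j := j) (by omega)
      have he : (2 * j - 4) * 2 ^ QsChow.klog n j + (2 ^ QsChow.klog n j - 1) =
          (2 * j - 3) * 2 ^ QsChow.klog n j - n + (n - 1) := by
        have := Nat.one_le_two_pow (n := QsChow.klog n j)
        have : (2 * j - 3) * 2 ^ QsChow.klog n j = (2 * j - 4) * 2 ^ QsChow.klog n j + 2 ^ QsChow.klog n j := by
          rw [show 2 * j - 3 = 2 * j - 4 + 1 by omega, add_mul, one_mul]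
        omega
      simp only [map_add, map_mul, map_pow, phi_evar_one, phi_xvar, phi_sPoly hn, phi_evar_ge h3.1 h3.2]
      rw [frob, hb, zero_add, mul_pow, ← pow_mul, mul_add, ← mul_assoc, ← pow_add, ← mul_assoc (QsChow.eps n 1 ^ ((2 * j - 4) * _)), ← pow_add, he]
      set A := QsChow.eps n 1 ^ ((2 * j - 4) * 2 ^ QsChow.klog n j) * QsChow.eps n 2 ^ 2 ^ QsChow.klog n j
      linear_combination (A + QsChow.eps n 1 ^ ((2 * j - 3) * 2 ^ QsChow.klog n j - n + (n - 1)) * QsChow.eps n 2) * (two_eq_zero (n := n))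
    · exact map_zero _

/-- `(e₁, x, e₂^{N/2}, e_j^{N_j})` -/
noncomputable def redIdeal (n : ℕ) : Ideal (QsChow.FreeE n) :=
  QsChow.presIdeal n ⊔ Ideal.span {QsChow.evar n 1, QsChow.xvar n}

theorem pow_evar_mem_red (hn : 2 ≤ n) (i : Fin (QsChow.numVars n)) (hi : i.1 ≠ 0) :
    (X (some i) : QsChow.FreeE n) ^ (if i.1 = 1 then 2 ^ (QsChow.klog n 2 - 1) else 2 ^ QsChow.klog n (i.1 + 1)) ∈ redIdeal n := by
  have he1 : QsChow.evar n 1 ∈ redIdeal n := Ideal.mem_sup_right (Ideal.subset_span (by simp))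
  have hx : QsChow.xvar n ∈ redIdeal n := Ideal.mem_sup_right (Ideal.subset_span (by simp))
  have hh : QsChow.hrel n (i.1 + 1) ∈ redIdeal n :=
    Ideal.mem_sup_left (Ideal.subset_span (Or.inr ⟨i, rfl⟩))
  simp only [QsChow.hrel] at hh
  split_ifs with h1
  · rw [if_pos (by omega)] at hh
    have hS : QsChow.sPoly n 2 ∈ redIdeal n := by
      have := Ideal.sub_mem _ hh (Ideal.mul_mem_left _ (QsChow.evar n 1 ^ (2 ^ QsChow.klog n 2 - n)) hx)
      rwa [add_sub_cancel_left] at this
    rw [QsChow.sPoly] at hS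
    obtain ⟨K, hK⟩ := Nat.exists_eq_add_of_le' (klog_two_pos hn)
    rw [hK, Finset.sum_range_succ, Nat.sub_self, pow_zero, one_mul] at hS
    have hrest : ∑ t ∈ Finset.range K, QsChow.evar n 1 ^ (2 ^ (K + 1) - 2 ^ (t + 1)) * QsChow.evar n 2 ^ 2 ^ t ∈ redIdeal n := by
      refine sum_mem fun t ht => Ideal.mul_mem_right _ _ (Ideal.pow_mem_of_mem _ he1 _ ?_)
      rw [Finset.mem_range] at ht
      have := Nat.pow_lt_pow_right one_lt_two (show t + 1 < K + 1 by omega)
      omega
    have := Ideal.sub_mem _ hS hrest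
    rw [add_sub_cancel_left, evar_two hn] at this
    rw [hK, Nat.add_sub_cancel]
    convert this
  · rw [if_neg (by omega), if_pos ⟨by omega, i.2⟩, evar_of_fin, add_assoc] at hh
    have h2 : QsChow.evar n 1 ^ ((2 * (i.1 + 1) - 3) * 2 ^ QsChow.klog n (i.1 + 1) - n) * QsChow.xvar n +
        QsChow.evar n 1 ^ ((2 * (i.1 + 1) - 4) * 2 ^ QsChow.klog n (i.1 + 1)) * QsChow.sPoly n (i.1 + 1) ∈ redIdeal n :=
      add_mem (Ideal.mul_mem_left _ _ hx) (Ideal.mul_mem_right _ _ (Ideal.pow_mem_of_mem _ he1 _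
        (Nat.mul_pos (by omega) (Nat.two_pow_pos _))))
    have := Ideal.sub_mem _ hh h2
    rwa [add_sub_cancel_right] at this

theorem mem_red_of_chi (hn : 2 ≤ n) {p : QsChow.FreeE n} (hp : chi n p ∈ zeroIdeal n) : p ∈ redIdeal n := by
  classical
  rw [zeroIdeal_eq, mem_ideal_span_monomial_image] at hp
  rw [p.as_sum]
  refine sum_mem fun d hd => ?_
  have key : ∀ o (k : ℕ), (X o : QsChow.FreeE n) ^ k ∈ redIdeal n → k ≤ d o → monomial d (p.coeff d) ∈ redIdeal n := by
    intro o k hk hle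
    have : monomial d (p.coeff d) = monomial (d - Finsupp.single o k) (p.coeff d) * X o ^ k := by
      rw [X_pow_eq_monomial, monomial_mul, mul_one, tsub_add_cancel_of_le (Finsupp.single_le_iff.mpr hle)]
    rw [this]
    exact Ideal.mul_mem_left _ _ hk
  by_cases hd1 : d none = 0
  swap
  · exact key none 1 (by rw [pow_one]; exact Ideal.mem_sup_right (Ideal.subset_span (by simp [QsChow.xvar]))) (by omega)
  by_cases hd0 : d (some ⟨0, numVars_pos n⟩) = 0
  swap
  · refine key _ 1 ?_ (Nat.one_le_iff_ne_zero.mpr hd0)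
    rw [pow_one, ← evar_one]
    exact Ideal.mem_sup_right (Ideal.subset_span (by simp))
  obtain ⟨t, ht, hle⟩ := hp (sig n d) (mem_support_iff.mpr (by rw [coeff_chi p hd1 hd0]; exact mem_support_iff.mp hd))
  rcases ht with ht | ⟨i, rfl⟩
  · rw [Set.mem_singleton_iff.mp ht] at hle
    have := hle ⟨0, numVars_pos n⟩
    simp [sig] at this
  · have h1 := hle i
    have hi : i.1 ≠ 0 := fun h0 => by
      simp [sig, h0, QsChow.bound] at h1
      omega
    refine key (some i) _ (pow_evar_mem_red hn i hi) ?_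
    simp [sig, hi, QsChow.bound] at h1
    split_ifs at h1 ⊢ with h
    · obtain ⟨K, hK⟩ := Nat.exists_eq_add_of_le' (klog_two_pos hn)
      rw [h, hK, pow_succ] at h1
      rw [hK, Nat.add_sub_cancel]
      omega
    · simpa using h1

/-- reduction of `P n` modulo `ε₁` -/
noncomputable def proj (n : ℕ) : QsChow.P n →ₐ[ZMod 2] QsChow.FreeP n ⧸ zeroIdeal n :=
  Ideal.Quotient.factorₐ (ZMod 2) (show QsChow.truncIdeal n ≤ zeroIdeal n from le_sup_right)

theorem proj_eps_one : proj n (QsChow.eps n 1) = 0 := by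
  have h := eps_of_fin (n := n) ⟨0, numVars_pos n⟩
  rw [Nat.zero_add] at h
  rw [h]
  show Ideal.Quotient.mk (zeroIdeal n) _ = 0
  exact Ideal.Quotient.eq_zero_iff_mem.mpr (Ideal.mem_sup_left (Ideal.mem_span_singleton_self _))

theorem proj_phi (hn : 2 ≤ n) (q : QsChow.FreeE n) :
    proj n (QsChow.phi n q) = Ideal.Quotient.mk (zeroIdeal n) (chi n q) := by
  have : (proj n).comp (QsChow.phi n) = (Ideal.Quotient.mkₐ (ZMod 2) (zeroIdeal n)).comp (chi n) := by
    refine MvPolynomial.algHom_ext fun o => ?_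
    have hX : ∀ i : Fin (QsChow.numVars n), proj n (QsChow.eps n (i.1 + 1)) = Ideal.Quotient.mk (zeroIdeal n) (X i) :=
      fun i => by rw [eps_of_fin]; rfl
    simp only [AlgHom.comp_apply, QsChow.phi, chi, aeval_X]
    cases o with
    | none =>
      simp only [QsChow.genImage, chiImage, map_mul, map_pow, proj_eps_one, map_zero]
      rw [zero_pow (by omega), zero_mul]
    | some i =>
      simp only [QsChow.genImage, chiImage]
      split_ifs with h0 h1
      · rw [proj_eps_one, map_zero]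
      · rw [map_add, map_mul, map_pow, proj_eps_one, zero_mul, add_zero, Ideal.Quotient.mkₐ_eq_mk, map_pow, ← hX, h1]
      · rw [map_add, map_mul, map_pow, proj_eps_one, zero_pow (by omega), zero_mul, add_zero, hX, pow_one]
        rfl
  exact DFunLike.congr_fun this q

theorem ker_phi_eq (hn : 2 ≤ n) : RingHom.ker (QsChow.phi n) = QsChow.presIdeal n := by
  refine le_antisymm (fun q hq => ?_) (presIdeal_le hn)
  rw [RingHom.mem_ker] at hq
  set i1 : Fin (QsChow.numVars n) := ⟨1, by unfold QsChow.numVars; omega⟩ with hi1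
  have hsep : ∀ p r : QsChow.FreeE n, proj n (QsChow.phi n p) + Ideal.Quotient.mk (zeroIdeal n) (X i1) * proj n (QsChow.phi n r) = 0 →
      p ∈ redIdeal n ∧ r ∈ redIdeal n := by
    intro p r h
    rw [proj_phi hn, proj_phi hn, ← map_mul, ← map_add, Ideal.Quotient.eq_zero_iff_mem] at h
    have hN : 2 ∣ QsChow.bound n i1 := by
      simp only [QsChow.bound, hi1, one_ne_zero, if_false]
      exact dvd_pow_self 2 (show QsChow.klog n (1 + 1) ≠ 0 from Nat.one_le_iff_ne_zero.mp (klog_two_pos hn))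
    exact ⟨mem_red_of_chi hn (chi_sep hn h hN).1, mem_red_of_chi hn (chi_sep hn h hN).2⟩
  have hgen : ∀ g ∈ ({QsChow.evar n 1 ^ n, QsChow.evar n 1 * QsChow.xvar n, QsChow.xvar n ^ 2} : Set (QsChow.FreeE n)),
      g ∈ QsChow.presIdeal n := fun g hg => Ideal.subset_span (Or.inl hg)
  have hred : ∀ r ∈ redIdeal n, ∃ i ∈ QsChow.presIdeal n, ∃ a b, r = i + a * QsChow.evar n 1 + b * QsChow.xvar n := by
    intro r hr
    obtain ⟨i, hi, w, hw, rfl⟩ := Submodule.mem_sup.mp hr
    obtain ⟨a, b, rfl⟩ := Ideal.mem_span_pair.mp hw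
    exact ⟨i, hi, a, b, by ring⟩
  have step : ∀ k, k ≤ n - 1 → ∃ i ∈ QsChow.presIdeal n, ∃ p r,
      q = i + QsChow.evar n 1 ^ k * p + QsChow.xvar n * r := by
    intro k
    induction k with
    | zero => exact fun _ => ⟨0, zero_mem _, q, 0, by ring⟩
    | succ k ih =>
      intro hk
      obtain ⟨i, hi, p, r, rfl⟩ := ih (by omega)
      rw [map_add, map_add, (RingHom.mem_ker).mp (presIdeal_le hn hi), zero_add, map_mul, map_mul, map_pow,
        phi_evar_one, phi_xvar] at hq
      obtain ⟨y, hy⟩ := exists_of_eps_pow_mul_eq_zero (m := k)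
        (x := QsChow.phi n p + QsChow.eps n 1 ^ (n - 1 - k) * QsChow.eps n 2 * QsChow.phi n r) (by
          rw [mul_add, ← mul_assoc, ← mul_assoc, ← pow_add, show k + (n - 1 - k) = n - 1 by omega]
          exact hq)
      have h0 : proj n (QsChow.phi n p) = 0 := by
        have := congrArg (proj n) hy
        simp only [map_add, map_mul, map_pow, proj_eps_one, zero_pow (show n - 1 - k ≠ 0 by omega),
          zero_pow (show n - k ≠ 0 by omega), zero_mul, add_zero] at this
        exact this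
      obtain ⟨i', hi', a, b, rfl⟩ := hred p (hsep p 0 (by rw [h0, map_zero, map_zero, mul_zero, add_zero])).1
      exact ⟨i + QsChow.evar n 1 ^ k * i', add_mem hi (Ideal.mul_mem_left _ _ hi'), a,
        QsChow.evar n 1 ^ k * b + r, by ring⟩
  obtain ⟨i, hi, p, r, rfl⟩ := step (n - 1) le_rfl
  rw [map_add, map_add, (RingHom.mem_ker).mp (presIdeal_le hn hi), zero_add, map_mul, map_mul, map_pow,
    phi_evar_one, phi_xvar] at hq
  obtain ⟨y, hy⟩ := exists_of_eps_pow_mul_eq_zero (m := n - 1)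
    (x := QsChow.phi n p + QsChow.eps n 2 * QsChow.phi n r) (by rw [mul_add, ← mul_assoc]; exact hq)
  have h0 := congrArg (proj n) hy
  simp only [map_add, map_mul, map_pow, proj_eps_one, zero_pow (show n - (n - 1) ≠ 0 by omega), zero_mul] at h0
  rw [show QsChow.eps n 2 = QsChow.eps n (i1.1 + 1) from rfl, eps_of_fin] at h0
  obtain ⟨hp, hr⟩ := hsep p r h0
  refine add_mem (add_mem hi ?_) ?_
  · obtain ⟨j, hj, a, b, rfl⟩ := hred p hp
    have h1 := hgen _ (Set.mem_insert _ _)
    have h2 := hgen (QsChow.evar n 1 * QsChow.xvar n) (by simp)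
    obtain ⟨m, hm⟩ : ∃ m, n - 1 = m + 1 := ⟨n - 2, by omega⟩
    rw [show QsChow.evar n 1 ^ (n - 1) * (j + a * QsChow.evar n 1 + b * QsChow.xvar n) =
      QsChow.evar n 1 ^ (n - 1) * j + a * QsChow.evar n 1 ^ n + (b * QsChow.evar n 1 ^ m) * (QsChow.evar n 1 * QsChow.xvar n) by
      rw [show QsChow.evar n 1 ^ n = QsChow.evar n 1 ^ (m + 1) * QsChow.evar n 1 by rw [← pow_succ]; congr 1; omega, hm]
      ring]
    exact add_mem (add_mem (Ideal.mul_mem_left _ _ hj) (Ideal.mul_mem_left _ _ h1)) (Ideal.mul_mem_left _ _ h2)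
  · obtain ⟨j, hj, a, b, rfl⟩ := hred r hr
    rw [show QsChow.xvar n * (j + a * QsChow.evar n 1 + b * QsChow.xvar n) =
      QsChow.xvar n * j + a * (QsChow.evar n 1 * QsChow.xvar n) + b * QsChow.xvar n ^ 2 by ring]
    exact add_mem (add_mem (Ideal.mul_mem_left _ _ hj) (Ideal.mul_mem_left _ _ (hgen _ (by simp))))
      (Ideal.mul_mem_left _ _ (hgen _ (by simp)))

end Groth.Agent.QsChow28
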