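import Groth.Prelude.Def_W4c4chowquasisplitNorm
import Groth.Agent.CycLib28.Push
import Groth.Agent.CycLib28.PB.ChernRel
import Groth.Agent.FlatMorAdm.CdCover
import Groth.Agent.FlatMorWeight.GeomPoints

/-!
# Norm subgroups of varieties living over a larger field
-/

set_option autoImplicit false
set_option backward.isDefEq.respectTransparency.types false
set_option backward.isDefEq.respectTransparency false
set_option linter.style.haveILetI false

universe u

open CategoryTheory Limits AlgebraicGeometry

namespace Groth.Agent.QsChow28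

theorem deltaCompat_of_finite {A B : Scheme.{u}} (f : A ⟶ B) [IsFinite f] (δ : B → ℤ) :
    Cyc.DeltaCompat f (δ ∘ ⇑f.base) δ := by
  intro x
  refine ⟨0, ?_, by simp⟩
  letI := (f.residueFieldMap x).hom.toAlgebra
  haveI : Module.Finite (B.residueField (f x)) (A.residueField x) := FlatMorWeight.residueFieldMap_finite f x
  exact_mod_cast trdeg_eq_zero

theorem normSubgroup_eq_top_of_factor
    (k : Type u) [Field k] (K : Type u) [Field K] [Algebra k K]
    (F : IntermediateField k K) [FiniteDimensional k F] (hF : F ≠ ⊥)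
    (X : Scheme.{u}) [X.Over (Spec (CommRingCat.of k))] (g : X ⟶ Spec (CommRingCat.of F))
    (hg : g ≫ Spec.map (CommRingCat.ofHom (algebraMap k F)) = X ↘ Spec (CommRingCat.of k))
    (δ : X → ℤ) (j : ℤ) :
    QsChow.normSubgroup k K X δ j = ⊤ := by
  haveI : IsFinite (Spec.map (CommRingCat.ofHom (algebraMap k F))) := by
    rw [IsFinite.SpecMap_iff]
    exact RingHom.finite_algebraMap.2 inferInstance
  haveI : IsFinite (Curv2.bcFst k X F) := MorphismProperty.pullback_fst _ _ inferInstance
  let p := Curv2.bcFst k X F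
  let s : X ⟶ Curv2.bc k X F := pullback.lift (𝟙 X) g (by rw [Category.id_comp, hg])
  have hs : s ≫ p = 𝟙 X := pullback.lift_fst _ _ _
  haveI : IsClosedImmersion (s ≫ p) := by rw [hs]; infer_instance
  have hbij : ∀ y, Function.Surjective (p.residueFieldMap (s y)).hom := fun y a => by
    obtain ⟨b, hb⟩ := (FlatMorAdm.residueFieldMap_bijective_closedImmersion (s ≫ p) y).2 (s.residueFieldMap y a)
    refine ⟨b, (s.residueFieldMap y).hom.injective ?_⟩
    rw [← hb, Scheme.residueFieldMap_comp]
    rfl
  rw [eq_top_iff]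
  intro c _
  obtain ⟨⟨β, hβ⟩, rfl⟩ := QuotientAddGroup.mk'_surjective _ c
  obtain ⟨α, hα, he⟩ := CycLib28.exists_map_eq (f := p) (deltaCompat_of_finite p δ) s.base
    (fun y => by rw [← Scheme.Hom.comp_apply, hs]; rfl) hbij j β hβ
  refine AddSubgroup.subset_closure ⟨F, inferInstance, hF, α, hα, CycLib28.PB.map_mem_Zk p _ δ hα, ?_⟩
  exact congrArg _ (Subtype.ext he.symm)

end Groth.Agent.QsChow28
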