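import Mathlib
import Groth.Prelude.Def_W4c4chowquasisplitPn2
import Groth.Agent.QsChow28.Kernel

/-!
# The three presentations of the fixed subalgebra modulo powers of `ε₁`
-/

set_option autoImplicit false

open MvPolynomial

namespace Groth.Agent.QsChow28

variable {n : ℕ}

theorem klog_spec {j : ℕ} (hn : 2 ≤ n) (hj : 2 ≤ j) (hjs : j ≤ QsChow.numVars n) :
    (2 * j - 3) * 2 ^ QsChow.klog n j ≤ 2 * n - 1 ∧ 2 * n ≤ (2 * j - 3) * 2 ^ (QsChow.klog n j + 1) := by
  have hm : 2 * j - 3 ≤ 2 * n - 1 := by unfold QsChow.numVars at hjs; omega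
  have h1 := Nat.pow_log_le_self 2 (x := (2 * n - 1) / (2 * j - 3)) (Nat.div_pos hm (by omega)).ne'
  rw [Nat.le_div_iff_mul_le (by omega)] at h1
  have h2 := le_pow_klog hn hj
  unfold QsChow.klog at *
  refine ⟨by rw [mul_comm]; exact h1, ?_⟩
  rw [pow_succ, ← mul_assoc]
  omega

theorem kprime_ge {j : ℕ} (hn : 2 ≤ n) (hj : 3 ≤ j) (hjs : j ≤ QsChow.numVars n) :
    QsChow.kprime n j = if (2 * j - 3) * 2 ^ QsChow.klog n j = n then QsChow.klog n j + 1 else QsChow.klog n j := by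
  obtain ⟨h1, h2⟩ := klog_spec hn (by omega) hjs
  simp only [QsChow.kprime, show j ≠ 1 by omega, show j ≠ 2 by omega, if_false]
  rw [pow_succ, ← mul_assoc] at h2
  split_ifs with h
  · refine Nat.log_eq_of_pow_le_of_lt_pow ?_ ?_
    · rw [Nat.le_div_iff_mul_le (by omega), pow_succ, mul_right_comm, mul_comm _ (2 * j - 3), h]; omega
    · rw [Nat.div_lt_iff_lt_mul (by omega), pow_succ, pow_succ, mul_right_comm, mul_right_comm _ 2, mul_comm _ (2 * j - 3), h]
      omega
  · have hne : (2 * j - 3) * 2 ^ QsChow.klog n j * 2 ≠ 2 * n := by omega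
    refine Nat.log_eq_of_pow_le_of_lt_pow ?_ ?_
    · rw [Nat.le_div_iff_mul_le (by omega), mul_comm]; omega
    · rw [Nat.div_lt_iff_lt_mul (by omega), pow_succ, mul_comm _ (2 * j - 3), ← mul_assoc]; omega

theorem eq_lIdx {j k : ℕ} (hj : 2 ≤ j) (h : (2 * j - 3) * 2 ^ k = n) : QsChow.twoExp n = k ∧ QsChow.lIdx n = j := by
  have ha : QsChow.twoExp n = k := by
    haveI : Fact (Nat.Prime 2) := ⟨Nat.prime_two⟩
    rw [QsChow.twoExp, ← h, padicValNat.mul (by omega) (by positivity), padicValNat.prime_pow,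
      padicValNat.eq_zero_of_not_dvd (by omega), zero_add]
  refine ⟨ha, ?_⟩
  rw [QsChow.lIdx, ha]
  conv_lhs => rw [← h]
  rw [Nat.mul_div_cancel _ (Nat.two_pow_pos _)]
  omega

theorem lIdx_spec (hn : 2 ≤ n) (ha : 1 ≤ QsChow.twoExp n) (hne : n ≠ 2 ^ QsChow.twoExp n) :
    3 ≤ QsChow.lIdx n ∧ QsChow.lIdx n ≤ QsChow.numVars n ∧ (2 * QsChow.lIdx n - 3) * 2 ^ QsChow.twoExp n = n := by
  haveI : Fact (Nat.Prime 2) := ⟨Nat.prime_two⟩
  have hdvd : 2 ^ QsChow.twoExp n ∣ n := pow_padicValNat_dvd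
  have hndvd : ¬ 2 ^ (QsChow.twoExp n + 1) ∣ n := pow_succ_padicValNat_not_dvd (by omega)
  obtain ⟨o, ho⟩ := hdvd
  have hodd : o % 2 = 1 := by
    by_contra h
    obtain ⟨c, rfl⟩ : 2 ∣ o := by omega
    exact hndvd ⟨c, by rw [pow_succ, mul_assoc, ← ho]⟩
  have ho1 : o ≠ 1 := fun h => hne (by rw [h, mul_one] at ho; exact ho)
  have hl : QsChow.lIdx n = (o + 3) / 2 := by
    rw [QsChow.lIdx]
    conv_lhs => arg 1; arg 1; arg 1; rw [ho]
    rw [Nat.mul_div_cancel_left _ (Nat.two_pow_pos _)]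
  have h2 : 2 ≤ 2 ^ QsChow.twoExp n := Nat.le_self_pow (by omega) 2
  have h2o : 2 * o ≤ n := by
    calc 2 * o ≤ 2 ^ QsChow.twoExp n * o := Nat.mul_le_mul_right o h2
      _ = n := ho.symm
  rw [hl]
  refine ⟨by omega, by unfold QsChow.numVars; omega, ?_⟩
  rw [show 2 * ((o + 3) / 2) - 3 = o by omega, mul_comm, ← ho]

theorem klog_two_eq (hn : 2 ≤ n) : QsChow.klog n 2 = if n = 2 ^ Nat.log 2 n then Nat.log 2 n else Nat.log 2 n + 1 := by
  have h1 := Nat.pow_log_le_self 2 (x := n) (by omega)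
  have h2 := Nat.lt_pow_succ_log_self one_lt_two n
  rw [QsChow.klog, show 2 * 2 - 3 = 1 from rfl, Nat.div_one]
  rw [pow_succ] at h2
  split_ifs with h
  · exact Nat.log_eq_of_pow_le_of_lt_pow (by omega) (by rw [pow_succ]; omega)
  · exact Nat.log_eq_of_pow_le_of_lt_pow (by rw [pow_succ]; omega) (by rw [pow_succ, pow_succ]; omega)

theorem le_four_pow {j : ℕ} {M : ℕ} (hn : 2 ≤ n) (hj : 3 ≤ j)
    (hM : M ≤ 2 ^ QsChow.klog n j ∨ M + 2 ^ QsChow.klog n j ≤ n) : M ≤ (2 * j - 4) * 2 ^ QsChow.klog n j := by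
  have h := le_pow_klog hn (show 2 ≤ j by omega)
  rw [show 2 * j - 3 = 2 * j - 4 + 1 by omega, add_mul, one_mul] at h
  have : 2 ^ QsChow.klog n j ≤ (2 * j - 4) * 2 ^ QsChow.klog n j := Nat.le_mul_of_pos_left _ (by omega)
  omega

theorem pow_mem'' {R : Type*} [CommRing R] (I : Ideal R) {a : R} {M k : ℕ} (h : a ^ M ∈ I) (hle : M ≤ k) :
    a ^ k ∈ I := by
  rw [show k = M + (k - M) by omega, pow_add]; exact I.mul_mem_right _ h

theorem sub_mem_iff_right {R : Type*} [CommRing R] {I : Ideal R} {a b : R} (ha : a ∈ I) : a - b ∈ I ↔ b ∈ I :=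
  ⟨fun h => by simpa using sub_mem ha h, fun h => sub_mem ha h⟩

theorem sub_mem_iff_left {R : Type*} [CommRing R] {I : Ideal R} {a b : R} (hb : b ∈ I) : a - b ∈ I ↔ a ∈ I :=
  ⟨fun h => by simpa using add_mem h hb, fun h => sub_mem h hb⟩

section congr

variable {J : Ideal (QsChow.FreeE n)} {M : ℕ}

theorem hrel_ge_congr (hn : 2 ≤ n) (he : QsChow.evar n 1 ^ M ∈ J) (hx : QsChow.evar n 1 * QsChow.xvar n ∈ J) {j : ℕ}
    (hj : 3 ≤ j) (hjs : j ≤ QsChow.numVars n) (hM : M ≤ (2 * j - 4) * 2 ^ QsChow.klog n j) :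
    QsChow.hrel n j - (QsChow.evar n j ^ 2 ^ QsChow.klog n j +
      if (2 * j - 3) * 2 ^ QsChow.klog n j = n then QsChow.xvar n else 0) ∈ J := by
  simp only [QsChow.hrel, show j ≠ 2 by omega, if_false, if_pos (show 3 ≤ j ∧ j ≤ QsChow.numVars n from ⟨hj, hjs⟩)]
  have h1 : QsChow.evar n 1 ^ ((2 * j - 4) * 2 ^ QsChow.klog n j) * QsChow.sPoly n j ∈ J :=
    Ideal.mul_mem_right _ _ (pow_mem'' J he hM)
  have hle := le_pow_klog hn (show 2 ≤ j by omega)
  split_ifs with h
  · rw [h, Nat.sub_self, pow_zero, one_mul, add_sub_cancel_left]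
    exact h1
  · rw [add_zero, add_assoc, add_sub_cancel_left]
    refine add_mem ?_ h1
    rw [show (2 * j - 3) * 2 ^ QsChow.klog n j - n = ((2 * j - 3) * 2 ^ QsChow.klog n j - n - 1) + 1 by omega,
      pow_succ, mul_assoc]
    exact Ideal.mul_mem_left _ _ hx

theorem hrel_two_congr (hn : 2 ≤ n) (he : QsChow.evar n 1 ^ M ∈ J) (hx : QsChow.evar n 1 * QsChow.xvar n ∈ J)
    (hne : n ≠ 2 ^ Nat.log 2 n) (hM : M ≤ 2 ^ Nat.log 2 n) :
    QsChow.hrel n 2 - QsChow.evar n 2 ^ 2 ^ Nat.log 2 n ∈ J := by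
  have h2 := Nat.lt_pow_succ_log_self one_lt_two n
  simp only [QsChow.hrel, if_true, QsChow.sPoly, klog_two_eq hn, if_neg hne]
  rw [Finset.sum_range_succ, Nat.sub_self, pow_zero, one_mul, ← add_assoc, add_sub_cancel_right]
  refine add_mem ?_ (sum_mem fun t ht => Ideal.mul_mem_right _ _ (pow_mem'' J he ?_))
  · rw [show 2 ^ (Nat.log 2 n + 1) - n = (2 ^ (Nat.log 2 n + 1) - n - 1) + 1 by omega, pow_succ (QsChow.evar n 1), mul_assoc]
    exact Ideal.mul_mem_left _ _ hx
  · rw [Finset.mem_range] at ht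
    have := Nat.pow_le_pow_right two_pos (show t + 1 ≤ Nat.log 2 n by omega)
    rw [pow_succ 2 (Nat.log 2 n)]
    omega

end congr

theorem evar_ne {j : ℕ} (h : ¬ (0 < j ∧ j ≤ QsChow.numVars n)) : QsChow.evar n j = 0 := dif_neg h

theorem pres_gen {g : QsChow.FreeE n}
    (h : g ∈ ({QsChow.evar n 1 ^ n, QsChow.evar n 1 * QsChow.xvar n, QsChow.xvar n ^ 2} : Set (QsChow.FreeE n))) :
    g ∈ QsChow.presIdeal n := Ideal.subset_span (Or.inl h)

theorem pres_hrel {j : ℕ} (hj : 1 ≤ j) (hjs : j ≤ QsChow.numVars n) : QsChow.hrel n j ∈ QsChow.presIdeal n :=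
  Ideal.subset_span (Or.inr ⟨⟨j - 1, by omega⟩, by show QsChow.hrel n (j - 1 + 1) = _; rw [Nat.sub_add_cancel hj]⟩)

theorem pres_le {J : Ideal (QsChow.FreeE n)} (h1 : QsChow.evar n 1 ^ n ∈ J) (h2 : QsChow.evar n 1 * QsChow.xvar n ∈ J)
    (h3 : QsChow.xvar n ^ 2 ∈ J) (h4 : ∀ j, 2 ≤ j → j ≤ QsChow.numVars n → QsChow.hrel n j ∈ J) :
    QsChow.presIdeal n ≤ J := by
  refine Ideal.span_le.mpr ?_
  rintro g (hg | ⟨i, rfl⟩)
  · simp only [Set.mem_insert_iff, Set.mem_singleton_iff] at hg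
    rcases hg with rfl | rfl | rfl
    exacts [h1, h2, h3]
  · rcases Nat.eq_zero_or_pos i.1 with h | h
    · simp [QsChow.hrel, h]
    · exact h4 (i.1 + 1) (by omega) i.2

/-- the inclusion of the polynomials without `x` -/
noncomputable def iota (n : ℕ) : QsChow.FreeP n →ₐ[ZMod 2] QsChow.FreeE n := rename some

theorem iota_evarE (j : ℕ) : iota n (QsChow.evarE n j) = QsChow.evar n j := by
  rw [QsChow.evarE, QsChow.evar]
  split_ifs
  · exact rename_X _ _
  · exact map_zero _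

theorem psi_eq (q : QsChow.FreeP n) : QsChow.psi n q = QsChow.phi n (iota n q) := by
  rw [QsChow.psi, QsChow.phi, iota, aeval_rename]
  rfl

/-- substitution for `x` -/
noncomputable def subst (n : ℕ) (v : QsChow.FreeP n) : QsChow.FreeE n →ₐ[ZMod 2] QsChow.FreeP n :=
  aeval fun o => o.elim v X

theorem subst_iota (v : QsChow.FreeP n) (q : QsChow.FreeP n) : subst n v (iota n q) = q := by
  rw [subst, iota, aeval_rename]
  exact congrArg (fun f : QsChow.FreeP n →ₐ[ZMod 2] QsChow.FreeP n => f q) aeval_X_left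

theorem subst_evar (v : QsChow.FreeP n) (j : ℕ) : subst n v (QsChow.evar n j) = QsChow.evarE n j := by
  rw [← iota_evarE, subst_iota]

theorem subst_xvar (v : QsChow.FreeP n) : subst n v (QsChow.xvar n) = v := by
  rw [QsChow.xvar, subst, aeval_X]; rfl

theorem sub_iota_subst_mem (v : QsChow.FreeP n) {J : Ideal (QsChow.FreeE n)} (hv : QsChow.xvar n - iota n v ∈ J)
    (r : QsChow.FreeE n) : r - iota n (subst n v r) ∈ J := by
  have : (Ideal.Quotient.mkₐ (ZMod 2) J) = (Ideal.Quotient.mkₐ (ZMod 2) J).comp ((iota n).comp (subst n v)) := by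
    refine MvPolynomial.algHom_ext fun o => ?_
    cases o with
    | none =>
      simp only [AlgHom.comp_apply, Ideal.Quotient.mkₐ_eq_mk, show (X none : QsChow.FreeE n) = QsChow.xvar n from rfl, subst_xvar]
      exact Ideal.Quotient.eq.mpr hv
    | some i => simp [subst, iota]
  exact Ideal.Quotient.eq.mp (DFunLike.congr_fun this r)

variable (hn : 2 ≤ n) (τ : QsChow.P n →ₐ[ZMod 2] QsChow.P n) (hτ1 : τ (QsChow.eps n 1) = QsChow.eps n 1)
  (hτ : ∀ j : ℕ, 2 ≤ j → j ≤ QsChow.numVars n →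
    τ (QsChow.eps n j) = QsChow.eps n j + QsChow.eps n 1 ^ (2 * j - 3))

include hn hτ1 hτ in
theorem mem_J_iff (M : ℕ) (q : QsChow.FreeE n) :
    (∃ w : QsChow.P n, τ w = w ∧ QsChow.phi n q = QsChow.eps n 1 ^ M * w) ↔
      q ∈ QsChow.presIdeal n ⊔ Ideal.span {QsChow.evar n 1 ^ M} := by
  constructor
  · rintro ⟨w, hw, h⟩
    obtain ⟨r, rfl⟩ : w ∈ (QsChow.phi n).range := by rw [range_phi_eq hn τ hτ1 hτ]; exact hw
    refine Submodule.mem_sup.mpr ⟨q - QsChow.evar n 1 ^ M * r, ?_, _, Ideal.mem_span_singleton.mpr (dvd_mul_right _ r), sub_add_cancel _ _⟩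
    rw [← ker_phi_eq hn, RingHom.mem_ker, map_sub, map_mul, map_pow, phi_evar_one, h]
    exact sub_self _
  · intro h
    obtain ⟨i, hi, w, hw, rfl⟩ := Submodule.mem_sup.mp h
    obtain ⟨r, rfl⟩ := Ideal.mem_span_singleton.mp hw
    refine ⟨QsChow.phi n r, tau_phi hn τ hτ1 hτ r, ?_⟩
    rw [map_add, RingHom.mem_ker.mp (presIdeal_le hn hi), zero_add, map_mul, map_pow, phi_evar_one]

include hn hτ1 hτ in
theorem oddCase (hodd : Odd n) (q : QsChow.FreeE n) :
    (∃ w : QsChow.P n, τ w = w ∧ QsChow.phi n q = QsChow.eps n 1 * w) ↔ q ∈ QsChow.oddIdeal n := by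
  have h := mem_J_iff hn τ hτ1 hτ 1 q
  simp only [pow_one] at h
  rw [h]
  suffices QsChow.presIdeal n ⊔ Ideal.span {QsChow.evar n 1} = QsChow.oddIdeal n by rw [this]
  obtain ⟨c, hc⟩ := hodd
  have hne : n ≠ 2 ^ Nat.log 2 n := fun h => by
    have : 0 < Nat.log 2 n := Nat.log_pos one_lt_two hn
    obtain ⟨d, hd⟩ : 2 ∣ 2 ^ Nat.log 2 n := dvd_pow_self 2 (by omega)
    omega
  have hnl : ∀ j, 3 ≤ j → j ≤ QsChow.numVars n → (2 * j - 3) * 2 ^ QsChow.klog n j ≠ n := fun j hj hjs he => by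
    rcases Nat.eq_zero_or_pos (QsChow.klog n j) with h0 | h0
    · rw [h0, pow_zero, mul_one] at he; unfold QsChow.numVars at hjs; omega
    · obtain ⟨d, hd⟩ : 2 ∣ (2 * j - 3) * 2 ^ QsChow.klog n j := Dvd.dvd.mul_left (dvd_pow_self 2 (by omega)) _
      omega
  have key : ∀ J : Ideal (QsChow.FreeE n), QsChow.evar n 1 ∈ J → ∀ j, 2 ≤ j → j ≤ QsChow.numVars n →
      (QsChow.hrel n j ∈ J ↔ QsChow.evar n j ^ 2 ^ QsChow.kprime n j ∈ J) := by
    intro J he j hj hjs
    have hx : QsChow.evar n 1 * QsChow.xvar n ∈ J := J.mul_mem_right _ he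
    rcases Nat.lt_or_eq_of_le hj with h3 | rfl
    · have hc := hrel_ge_congr (J := J) (M := 1) hn (by rwa [pow_one]) hx (show 3 ≤ j by omega) hjs
        (Nat.mul_pos (by omega) (Nat.two_pow_pos _))
      rw [if_neg (hnl j h3 hjs), add_zero] at hc
      rw [kprime_ge hn h3 hjs, if_neg (hnl j h3 hjs)]
      exact ⟨fun h => (sub_mem_iff_right h).mp hc, fun h => (sub_mem_iff_left h).mp hc⟩
    · have hc := hrel_two_congr (J := J) (M := 1) hn (by rwa [pow_one]) hx hne (Nat.two_pow_pos _)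
      simp only [QsChow.kprime, if_true, show (2 : ℕ) ≠ 1 by omega, if_false]
      exact ⟨fun h => (sub_mem_iff_right h).mp hc, fun h => (sub_mem_iff_left h).mp hc⟩
  apply le_antisymm
  · have he : QsChow.evar n 1 ∈ QsChow.oddIdeal n := Ideal.subset_span (by simp)
    refine sup_le (pres_le (Ideal.pow_mem_of_mem _ he n (by omega)) (Ideal.mul_mem_right _ _ he)
      (Ideal.subset_span (by simp)) fun j hj hjs => (key _ he j hj hjs).mpr ?_) ((Ideal.span_singleton_le_iff_mem _).mpr he)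
    exact Ideal.subset_span (Or.inr ⟨⟨j - 1, by omega⟩, by show QsChow.evar n (j - 1 + 1) ^ _ = _; rw [Nat.sub_add_cancel (show 1 ≤ j by omega)]⟩)
  · have he : QsChow.evar n 1 ∈ QsChow.presIdeal n ⊔ Ideal.span {QsChow.evar n 1} :=
      Ideal.mem_sup_right (Ideal.mem_span_singleton_self _)
    refine Ideal.span_le.mpr ?_
    rintro g (hg | ⟨i, rfl⟩)
    · simp only [Set.mem_insert_iff, Set.mem_singleton_iff] at hg
      rcases hg with rfl | rfl
      exacts [he, Ideal.mem_sup_left (pres_gen (by simp))]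
    · rcases Nat.eq_zero_or_pos i.1 with h | h
      · rw [SetLike.mem_coe]
        simp only [h]
        exact Ideal.pow_mem_of_mem _ he _ (Nat.two_pow_pos _)
      · exact (key _ he _ (by omega) i.2).mp (Ideal.mem_sup_left (pres_hrel (by omega) i.2))

theorem two_eq_zero_freeE : (2 : QsChow.FreeE n) = 0 := by
  have h : C (2 : ZMod 2) = (2 : QsChow.FreeE n) := map_ofNat C 2
  rw [← h, show (2 : ZMod 2) = 0 from rfl, map_zero]

include hn hτ1 hτ in
theorem evenCase (ha : 1 ≤ QsChow.twoExp n) (hne : n ≠ 2 ^ QsChow.twoExp n) :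
    (∀ q : QsChow.FreeP n,
      (∃ w : QsChow.P n, τ w = w ∧ QsChow.psi n q = QsChow.eps n 1 ^ 2 ^ QsChow.twoExp n * w) ↔
        q ∈ QsChow.evenIdeal n) ∧
    (∀ z : QsChow.P n, τ z = z → ∃ q : QsChow.FreeP n, ∃ w : QsChow.P n,
      τ w = w ∧ z = QsChow.psi n q + QsChow.eps n 1 ^ 2 ^ QsChow.twoExp n * w) := by
  obtain ⟨hl3, hls, hl⟩ := lIdx_spec hn ha hne
  set a := QsChow.twoExp n with had
  set l := QsChow.lIdx n with hld
  have h3a : 3 * 2 ^ a ≤ n := hl ▸ Nat.mul_le_mul_right _ (by omega)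
  have hkl : QsChow.klog n l = a := by
    rw [QsChow.klog]
    refine Nat.log_eq_of_pow_le_of_lt_pow ?_ ?_
    · rw [Nat.le_div_iff_mul_le (by omega), mul_comm, hl]; omega
    · rw [Nat.div_lt_iff_lt_mul (by omega), pow_succ, mul_right_comm, mul_comm _ (2 * l - 3), hl]; omega
  have hkl' : QsChow.kprime n l = a + 1 := by rw [kprime_ge hn hl3 hls, hkl, if_pos hl]
  have hnlog : n ≠ 2 ^ Nat.log 2 n := fun h => by
    obtain ⟨h1, h2⟩ := eq_lIdx (n := n) (j := 2) (k := Nat.log 2 n) le_rfl (by omega)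
    omega
  have hlog : 2 ^ a ≤ 2 ^ Nat.log 2 n := by
    refine Nat.pow_le_pow_right two_pos (Nat.le_log_of_pow_le one_lt_two ?_)
    omega
  set v : QsChow.FreeP n := QsChow.evarE n l ^ 2 ^ a with hvd
  set J₁ := QsChow.presIdeal n ⊔ Ideal.span {QsChow.evar n 1 ^ 2 ^ a} with hJ₁
  set J₂ := (QsChow.evenIdeal n).comap (subst n v) with hJ₂
  have hgenE : ∀ j, 1 ≤ j → j ≤ QsChow.numVars n → QsChow.evarE n j ^ 2 ^ QsChow.kprime n j ∈ QsChow.evenIdeal n :=
    fun j hj hjs => Ideal.subset_span (Or.inr ⟨⟨j - 1, by omega⟩, by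
      show QsChow.evarE n (j - 1 + 1) ^ _ = _; rw [Nat.sub_add_cancel hj]⟩)
  have hk1 : QsChow.kprime n 1 = a := by simp [QsChow.kprime, had]
  have hmixed : QsChow.evarE n 1 * QsChow.evarE n l ^ 2 ^ a ∈ QsChow.evenIdeal n := by
    refine Ideal.subset_span (Or.inl ?_)
    rw [Set.mem_singleton_iff, ← hld, hkl', Nat.add_sub_cancel]
  -- properties shared by the two ideals
  have key : ∀ J : Ideal (QsChow.FreeE n), QsChow.evar n 1 ^ 2 ^ a ∈ J → QsChow.evar n 1 * QsChow.xvar n ∈ J →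
      ∀ j, 2 ≤ j → j ≤ QsChow.numVars n → QsChow.hrel n j -
        (if j = l then QsChow.evar n j ^ 2 ^ a + QsChow.xvar n else QsChow.evar n j ^ 2 ^ QsChow.kprime n j) ∈ J := by
    intro J he hx j hj hjs
    rcases Nat.lt_or_eq_of_le hj with h3 | rfl
    · have hM : 2 ^ a ≤ (2 * j - 4) * 2 ^ QsChow.klog n j := le_four_pow hn h3 (by
        rcases le_or_gt a (QsChow.klog n j) with h | h
        · exact Or.inl (Nat.pow_le_pow_right two_pos h)
        · have := Nat.pow_le_pow_right two_pos h.le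
          exact Or.inr (by omega))
      have hc := hrel_ge_congr (J := J) hn he hx (show 3 ≤ j by omega) hjs hM
      by_cases hjl : j = l
      · rw [if_pos hjl]
        rw [hjl, hkl, if_pos hl] at hc
        rwa [hjl]
      · have hne' : (2 * j - 3) * 2 ^ QsChow.klog n j ≠ n := fun h => hjl (eq_lIdx hj h).2.symm
        rw [if_neg hne', add_zero] at hc
        rwa [if_neg hjl, kprime_ge hn h3 hjs, if_neg hne']
    · rw [if_neg (by omega)]
      simp only [QsChow.kprime, if_true, show (2 : ℕ) ≠ 1 by omega, if_false]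
      exact hrel_two_congr hn he hx hnlog hlog
  have he1 : QsChow.evar n 1 ^ 2 ^ a ∈ J₁ := Ideal.mem_sup_right (Ideal.mem_span_singleton_self _)
  have hx1 : QsChow.evar n 1 * QsChow.xvar n ∈ J₁ := Ideal.mem_sup_left (pres_gen (by simp))
  have he2 : QsChow.evar n 1 ^ 2 ^ a ∈ J₂ := by
    rw [hJ₂, Ideal.mem_comap, map_pow, subst_evar]
    exact hk1 ▸ hgenE 1 le_rfl (numVars_pos n)
  have hv1 : QsChow.xvar n - iota n v ∈ J₁ := by
    have h := key J₁ he1 hx1 l (by omega) hls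
    rw [if_pos rfl] at h
    have h2 := (sub_mem_iff_right (Ideal.mem_sup_left (pres_hrel (n := n) (by omega) hls))).mp h
    rw [hvd, map_pow, iota_evarE]
    convert h2 using 1
    linear_combination (-QsChow.evar n l ^ 2 ^ a) * (two_eq_zero_freeE (n := n))
  have hle2 : J₁ ≤ J₂ := by
    have hx2 : QsChow.evar n 1 * QsChow.xvar n ∈ J₂ := by
      rw [hJ₂, Ideal.mem_comap, map_mul, subst_evar, subst_xvar]; exact hmixed
    refine sup_le (pres_le (pow_mem'' J₂ he2 (by omega)) hx2 ?_ fun j hj hjs => ?_)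
      ((Ideal.span_singleton_le_iff_mem _).mpr he2)
    · rw [hJ₂, Ideal.mem_comap, map_pow, subst_xvar, hvd, ← pow_mul, ← pow_succ]
      exact hkl' ▸ hgenE l (by omega) hls
    · refine (sub_mem_iff_left ?_).mp (key J₂ he2 hx2 j hj hjs)
      split_ifs with h
      · rw [hJ₂, Ideal.mem_comap, map_add, map_pow, subst_evar, subst_xvar, h, hvd, ← two_mul]
        have h2 : (2 : QsChow.FreeP n) = 0 := by
          have h' : C (2 : ZMod 2) = (2 : QsChow.FreeP n) := map_ofNat C 2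
          rw [← h', show (2 : ZMod 2) = 0 from rfl, map_zero]
        rw [h2, zero_mul]
        exact zero_mem _
      · rw [hJ₂, Ideal.mem_comap, map_pow, subst_evar]
        exact hgenE j (by omega) hjs
  have hle1 : QsChow.evenIdeal n ≤ J₁.comap (iota n) := by
    refine Ideal.span_le.mpr ?_
    rintro g (hg | ⟨i, rfl⟩)
    · rw [Set.mem_singleton_iff] at hg
      subst hg
      rw [SetLike.mem_coe, Ideal.mem_comap, map_mul, map_pow, iota_evarE, iota_evarE, ← hld, hkl', Nat.add_sub_cancel]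
      have h2 := J₁.mul_mem_left (QsChow.evar n 1) hv1
      rw [hvd, map_pow, iota_evarE, mul_sub] at h2
      exact (sub_mem_iff_right hx1).mp h2
    · rw [SetLike.mem_coe, Ideal.mem_comap, map_pow, iota_evarE]
      rcases Nat.eq_zero_or_pos i.1 with h | h
      · simp only [h]; rw [hk1]; exact he1
      · have hh := (sub_mem_iff_right (Ideal.mem_sup_left (pres_hrel (n := n) (j := i.1 + 1) (by omega) i.2))).mp
          (key J₁ he1 hx1 (i.1 + 1) (by omega) i.2)
        split_ifs at hh with hil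
        · have h2 := J₁.mul_mem_left (QsChow.xvar n + iota n v) hv1
          have hxx : QsChow.xvar n ^ 2 ∈ J₁ := Ideal.mem_sup_left (pres_gen (by simp))
          have h3 : iota n v * iota n v ∈ J₁ := by
            convert sub_mem hxx h2 using 1; ring
          rw [hil, hkl', pow_succ, pow_mul, pow_two]
          rwa [hvd, map_pow, iota_evarE] at h3
        · exact hh
  refine ⟨fun q => ?_, fun z hz => ?_⟩
  · simp only [psi_eq]
    rw [mem_J_iff hn τ hτ1 hτ]
    refine ⟨fun h => ?_, fun h => hle1 h⟩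
    have := hle2 h
    rwa [hJ₂, Ideal.mem_comap, subst_iota] at this
  · obtain ⟨r, rfl⟩ : z ∈ (QsChow.phi n).range := by rw [range_phi_eq hn τ hτ1 hτ]; exact hz
    obtain ⟨w, hw, he⟩ := (mem_J_iff hn τ hτ1 hτ (2 ^ a) _).mpr (sub_iota_subst_mem v hv1 r)
    refine ⟨subst n v r, w, hw, ?_⟩
    rw [map_sub, sub_eq_iff_eq_add'] at he
    rw [psi_eq]
    exact he

include hn hτ1 hτ in
theorem powCase (b : ℕ) (hb : 1 ≤ b) (hnb : n = 2 ^ b) :
    (QsChow.psi n).range = AlgHom.equalizer τ (AlgHom.id (ZMod 2) (QsChow.P n)) ∧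
      RingHom.ker (QsChow.psi n) = QsChow.powIdeal n := by
  haveI : Fact (Nat.Prime 2) := ⟨Nat.prime_two⟩
  have hk1 : QsChow.kprime n 1 = b := by simp [QsChow.kprime, QsChow.twoExp, hnb]
  have hlog : Nat.log 2 n = b := by rw [hnb, Nat.log_pow one_lt_two]
  have hk2 : QsChow.kprime n 2 = b := by simp [QsChow.kprime, hlog]
  have hkl2 : QsChow.klog n 2 = b := by rw [klog_two_eq hn, hlog, if_pos hnb]
  set v : QsChow.FreeP n := ∑ t ∈ Finset.range (QsChow.kprime n 2),
      QsChow.evarE n 1 ^ (2 ^ QsChow.kprime n 2 - 2 ^ (t + 1)) * QsChow.evarE n 2 ^ 2 ^ t with hvd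
  set J₂ := (QsChow.powIdeal n).comap (subst n v) with hJ₂
  have hiv : iota n v = QsChow.sPoly n 2 := by
    simp only [hvd, map_sum, map_mul, map_pow, iota_evarE, QsChow.sPoly, hkl2, hk2]
  have hh2 : QsChow.hrel n 2 = QsChow.xvar n + QsChow.sPoly n 2 := by
    simp only [QsChow.hrel, if_true, hkl2]
    rw [← hnb, Nat.sub_self, pow_zero, one_mul]
  have hgenE : ∀ j, 1 ≤ j → j ≤ QsChow.numVars n → QsChow.evarE n j ^ 2 ^ QsChow.kprime n j ∈ QsChow.powIdeal n :=
    fun j hj hjs => Ideal.subset_span (Or.inr ⟨⟨j - 1, by omega⟩, by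
      show QsChow.evarE n (j - 1 + 1) ^ _ = _; rw [Nat.sub_add_cancel hj]⟩)
  have key : ∀ J : Ideal (QsChow.FreeE n), QsChow.evar n 1 ^ n ∈ J → QsChow.evar n 1 * QsChow.xvar n ∈ J →
      ∀ j, 3 ≤ j → j ≤ QsChow.numVars n → QsChow.hrel n j - QsChow.evar n j ^ 2 ^ QsChow.kprime n j ∈ J := by
    intro J he hx j hj hjs
    have hne : (2 * j - 3) * 2 ^ QsChow.klog n j ≠ n := fun h => by
      have h1 := (eq_lIdx (show 2 ≤ j by omega) h).1
      have hte : QsChow.twoExp n = b := by rw [QsChow.twoExp, hnb, padicValNat.prime_pow]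
      rw [hte] at h1
      rw [← h1] at h
      have := Nat.eq_of_mul_eq_mul_right (Nat.two_pow_pos b) (h.trans (hnb.trans (one_mul _).symm))
      omega
    have hkb : QsChow.klog n j < b := by
      by_contra h
      obtain ⟨h1, -⟩ := klog_spec hn (show 2 ≤ j by omega) hjs
      have := Nat.mul_le_mul (show 3 ≤ 2 * j - 3 by omega) (Nat.pow_le_pow_right two_pos (not_lt.mp h))
      omega
    have hM : n ≤ (2 * j - 4) * 2 ^ QsChow.klog n j := by
      obtain ⟨-, h2⟩ := klog_spec hn (show 2 ≤ j by omega) hjs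
      have h3 := le_pow_klog hn (show 2 ≤ j by omega)
      obtain ⟨d, hd⟩ := Nat.exists_eq_add_of_lt hkb
      have hnn : n = 2 ^ (d + 1) * 2 ^ QsChow.klog n j := hnb.trans (by rw [← pow_add]; congr 1; omega)
      have h4 : 2 ^ (d + 1) * 2 ^ QsChow.klog n j < (2 * j - 3) * 2 ^ QsChow.klog n j :=
        lt_of_eq_of_lt hnn.symm (lt_of_le_of_ne h3 (Ne.symm hne))
      have h5 := Nat.lt_of_mul_lt_mul_right h4
      calc n = 2 ^ (d + 1) * 2 ^ QsChow.klog n j := hnn
        _ ≤ _ := Nat.mul_le_mul_right _ (by omega)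
    have hc := hrel_ge_congr (J := J) hn he hx hj hjs hM
    rw [if_neg hne, add_zero] at hc
    rwa [kprime_ge hn hj hjs, if_neg hne]
  have he1 : QsChow.evar n 1 ^ n ∈ QsChow.presIdeal n := pres_gen (by simp)
  have hx1 : QsChow.evar n 1 * QsChow.xvar n ∈ QsChow.presIdeal n := pres_gen (by simp)
  have he2 : QsChow.evar n 1 ^ n ∈ J₂ := by
    rw [hJ₂, Ideal.mem_comap, map_pow, subst_evar]
    have := hgenE 1 le_rfl (numVars_pos n)
    rwa [hk1, ← hnb] at this
  have hv1 : QsChow.xvar n - iota n v ∈ QsChow.presIdeal n := by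
    have h : QsChow.hrel n 2 ∈ QsChow.presIdeal n := pres_hrel (by omega) (by unfold QsChow.numVars; omega)
    rw [hh2] at h
    convert h using 1
    rw [hiv]
    linear_combination (-QsChow.sPoly n 2) * (two_eq_zero_freeE (n := n))
  have hsq : ∀ J : Ideal (QsChow.FreeE n), QsChow.evar n 1 ^ n ∈ J →
      QsChow.sPoly n 2 ^ 2 - QsChow.evar n 2 ^ 2 ^ b ∈ J := by
    intro J he
    have hfrob : ∀ (f : ℕ → QsChow.FreeE n) (K : ℕ), (∑ t ∈ Finset.range K, f t) ^ 2 = ∑ t ∈ Finset.range K, f t ^ 2 := by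
      intro f K
      induction K with
      | zero => simp
      | succ K ih =>
        rw [Finset.sum_range_succ, Finset.sum_range_succ, ← ih]
        linear_combination ((∑ t ∈ Finset.range K, f t) * f K) * (two_eq_zero_freeE (n := n))
    obtain ⟨c, rfl⟩ := Nat.exists_eq_add_of_le' hb
    rw [QsChow.sPoly, hkl2, hfrob, Finset.sum_range_succ, Nat.sub_self, pow_zero, one_mul, ← pow_mul, ← pow_succ,
      add_sub_cancel_right]
    refine sum_mem fun t ht => ?_
    rw [Finset.mem_range] at ht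
    rw [mul_pow, ← pow_mul]
    refine Ideal.mul_mem_right _ _ (pow_mem'' J he ?_)
    have := Nat.pow_le_pow_right two_pos (show t + 1 ≤ c by omega)
    rw [hnb, pow_succ 2 c]
    omega
  have hle2 : QsChow.presIdeal n ≤ J₂ := by
    have hx2 : QsChow.evar n 1 * QsChow.xvar n ∈ J₂ := by
      rw [hJ₂, Ideal.mem_comap, map_mul, subst_evar, subst_xvar]
      exact Ideal.subset_span (Or.inl rfl)
    have hS : subst n v (QsChow.sPoly n 2) = v := by rw [← hiv, subst_iota]
    refine pres_le he2 hx2 ?_ fun j hj hjs => ?_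
    · have h : subst n v (QsChow.sPoly n 2 ^ 2 - QsChow.evar n 2 ^ 2 ^ b) ∈ QsChow.powIdeal n := hsq J₂ he2
      rw [map_sub, map_pow, map_pow, hS, subst_evar] at h
      rw [hJ₂, Ideal.mem_comap, map_pow, subst_xvar]
      exact (sub_mem_iff_left (hk2 ▸ hgenE 2 (by omega) (by unfold QsChow.numVars; omega))).mp h
    · rcases Nat.lt_or_eq_of_le hj with h3 | rfl
      · refine (sub_mem_iff_left ?_).mp (key J₂ he2 hx2 j h3 hjs)
        rw [hJ₂, Ideal.mem_comap, map_pow, subst_evar]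
        exact hgenE j (by omega) hjs
      · rw [hh2, hJ₂, Ideal.mem_comap, map_add, subst_xvar, hS, ← two_mul]
        have h2 : (2 : QsChow.FreeP n) = 0 := by
          have h' : C (2 : ZMod 2) = (2 : QsChow.FreeP n) := map_ofNat C 2
          rw [← h', show (2 : ZMod 2) = 0 from rfl, map_zero]
        rw [h2, zero_mul]
        exact zero_mem _
  have hxx : QsChow.xvar n ^ 2 ∈ QsChow.presIdeal n := pres_gen (by simp)
  have hle1 : QsChow.powIdeal n ≤ (QsChow.presIdeal n).comap (iota n) := by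
    refine Ideal.span_le.mpr ?_
    rintro g (hg | ⟨i, rfl⟩)
    · rw [Set.mem_singleton_iff] at hg
      subst hg
      rw [SetLike.mem_coe, Ideal.mem_comap, map_mul, iota_evarE, ← hvd]
      have h2 := (QsChow.presIdeal n).mul_mem_left (QsChow.evar n 1) hv1
      rw [mul_sub] at h2
      exact (sub_mem_iff_right hx1).mp h2
    · rw [SetLike.mem_coe, Ideal.mem_comap, map_pow, iota_evarE]
      rcases Nat.eq_zero_or_pos i.1 with h | h
      · simp only [h]; rw [hk1, ← hnb]; exact he1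
      · rcases Nat.lt_or_eq_of_le (show 1 ≤ i.1 from h) with h1 | h1
        · exact (sub_mem_iff_right (pres_hrel (n := n) (by omega) i.2)).mp (key _ he1 hx1 _ (by omega) i.2)
        · simp only [← h1]
          rw [hk2]
          have h2 := (QsChow.presIdeal n).mul_mem_left (QsChow.xvar n + iota n v) hv1
          have h3 : QsChow.sPoly n 2 ^ 2 ∈ QsChow.presIdeal n := by
            convert sub_mem hxx h2 using 1
            rw [hiv]; ring
          exact (sub_mem_iff_right h3).mp (hsq _ he1)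
  constructor
  · rw [← range_phi_eq hn τ hτ1 hτ]
    refine le_antisymm ?_ ?_
    · rintro _ ⟨q, rfl⟩
      exact ⟨iota n q, (psi_eq q).symm⟩
    · rintro _ ⟨r, rfl⟩
      refine ⟨subst n v r, ?_⟩
      have h := presIdeal_le hn (sub_iota_subst_mem v hv1 r)
      rw [RingHom.mem_ker, map_sub, sub_eq_zero] at h
      exact (psi_eq _).trans h.symm
  · refine le_antisymm (fun q hq => ?_) fun q hq => ?_
    · rw [RingHom.mem_ker, psi_eq, ← RingHom.mem_ker, ker_phi_eq hn] at hq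
      have h := hle2 hq
      rwa [hJ₂, Ideal.mem_comap, subst_iota] at h
    · rw [RingHom.mem_ker, psi_eq, ← RingHom.mem_ker, ker_phi_eq hn]
      exact hle1 hq

end Groth.Agent.QsChow28
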