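import Mathlib
import Groth.Prelude.Def_W4c4chowquasisplitNorm

/-!
# The conormed Chow group of a point
-/

set_option autoImplicit false

universe u

open AlgebraicGeometry CategoryTheory

namespace Groth.Agent.QsChow28

/-- The map from a ring to the residue field of a point of its spectrum. -/
noncomputable def gam (R : CommRingCat.{u}) (x : (Spec R : Scheme.{u})) : R ⟶ (Spec R).residueField x :=
  CommRingCat.ofHom (algebraMap R x.asIdeal.ResidueField) ≫ (Scheme.Spec.residueFieldIso R x).inv

theorem fromSpecResidueField_eq (R : CommRingCat.{u}) (x : (Spec R : Scheme.{u})) :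
    (Spec R).fromSpecResidueField x = Spec.map (gam R x) := by
  rw [gam, Spec.map_comp]
  exact (Scheme.Spec.map_residueFieldIso_inv_eq_fromSpecResidueField R x).symm

theorem gam_naturality {R S : CommRingCat.{u}} (φ : R ⟶ S) (x : (Spec S : Scheme.{u})) :
    φ ≫ gam S x = gam R ((Spec.map φ).base x) ≫ (Spec.map φ).residueFieldMap x := by
  apply Spec.map_injective
  rw [Spec.map_comp, Spec.map_comp, ← fromSpecResidueField_eq, ← fromSpecResidueField_eq]
  exact ((Spec.map φ).SpecMap_residueFieldMap_fromSpecResidueField x).symm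

theorem gam_bijective (F : Type u) [Field F] (x : (Spec (CommRingCat.of F) : Scheme.{u})) :
    Function.Bijective (gam (CommRingCat.of F) x) := by
  have h : Function.Bijective (algebraMap F x.asIdeal.ResidueField) := by
    haveI : x.asIdeal.IsMaximal := by
      rw [(Ideal.eq_bot_or_top x.asIdeal).resolve_right x.isPrime.ne_top]
      exact Ideal.bot_isMaximal
    refine ⟨RingHom.injective _, ?_⟩
    rw [IsScalarTower.algebraMap_eq F (F ⧸ x.asIdeal) x.asIdeal.ResidueField, RingHom.coe_comp]
    exact x.asIdeal.bijective_algebraMap_quotient_residueField.surjective.comp Ideal.Quotient.mk_surjective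
  exact (Scheme.Spec.residueFieldIso (CommRingCat.of F) x).symm.commRingCatIsoToRingEquiv.bijective.comp h

theorem residueDegree_field (k F : Type u) [Field k] [Field F] [Algebra k F] (x : (Spec (CommRingCat.of F) : Scheme.{u})) :
    (Spec.map (CommRingCat.ofHom (algebraMap k F))).residueDegree x = Module.finrank k F := by
  set φ := CommRingCat.ofHom (algebraMap k F)
  rw [Scheme.Hom.residueDegree]
  letI := ((Spec.map φ).residueFieldMap x).hom.toAlgebra
  refine (Algebra.finrank_eq_of_equiv_equiv
    (RingEquiv.ofBijective (gam (CommRingCat.of k) ((Spec.map φ).base x)).hom (gam_bijective k _))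
    (RingEquiv.ofBijective (gam (CommRingCat.of F) x).hom (gam_bijective F x)) ?_).symm
  ext a
  exact (DFunLike.congr_fun (congrArg CommRingCat.Hom.hom (gam_naturality φ x)) a).symm

variable (k : Type u) [Field k] (K : Type u) [Field K] [Algebra k K]

/-- the coefficient at the point -/
noncomputable def coeffPt : ↥(ChowOps.zk (Spec (CommRingCat.of k)) (fun _ => 0) 0) →+ ℤ where
  toFun a := (a : AlgebraicCycle (Spec (CommRingCat.of k)) ℤ) (IsLocalRing.closedPoint k)
  map_zero' := rfl
  map_add' _ _ := rfl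

instance subsingletonSpecField (F : Type u) [Field F] : Subsingleton (Spec (CommRingCat.of F) : Scheme.{u}) :=
  inferInstanceAs (Subsingleton (PrimeSpectrum F))

theorem ratTriv_le : ChowOps.ratTriv (Spec (CommRingCat.of k)) (fun _ => 0) 0 ≤ (coeffPt k).ker := by
  refine (AddSubgroup.closure_le _).mpr ?_
  rintro a ⟨ι, ξ, f, h, -, -, he⟩
  haveI : IsEmpty ι := ⟨fun i => by simpa using h i⟩
  show a.1 _ = 0
  rw [he, finsum_of_isEmpty]

/-- The Chow group of a point is `ℤ`. -/
noncomputable def degPt : ChowOps.CH (Spec (CommRingCat.of k)) (fun _ => 0) 0 →+ ℤ :=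
  QuotientAddGroup.lift _ (coeffPt k) (ratTriv_le k)

theorem degPt_bijective : Function.Bijective (degPt k) := by
  classical
  refine ⟨(injective_iff_map_eq_zero _).mpr fun c hc => ?_, fun m => ?_⟩
  · obtain ⟨a, rfl⟩ := QuotientAddGroup.mk_surjective c
    have : a = 0 := Subtype.ext <| DFunLike.ext _ _ fun y => by
      rw [Subsingleton.elim y (IsLocalRing.closedPoint k)]
      exact hc
    rw [this]; rfl
  · refine ⟨QuotientAddGroup.mk ⟨Function.locallyFinsuppWithin.single (IsLocalRing.closedPoint k) m, fun y hy => absurd rfl hy⟩, ?_⟩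
    refine (QuotientAddGroup.lift_mk _ _ _).trans ?_
    exact Pi.single_eq_same (M := fun _ : (Spec (CommRingCat.of k) : Scheme.{u}) => ℤ) (IsLocalRing.closedPoint k) m

theorem degPt_push (F : IntermediateField k K) (α : AlgebraicCycle (Spec (CommRingCat.of (F : Type u))) ℤ)
    (h : AlgebraicCycle.map (Spec.map (CommRingCat.ofHom (algebraMap k F)))
      (fun _ => (0 : ℤ)) (fun _ => (0 : ℤ)) α ∈ Cyc.Zk (Spec (CommRingCat.of k)) (fun _ => 0) 0) :
    degPt k (ChowOps.cl (AlgebraicCycle.map (Spec.map (CommRingCat.ofHom (algebraMap k F)))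
      (fun _ => (0 : ℤ)) (fun _ => (0 : ℤ)) α) h) = α (IsLocalRing.closedPoint F) * Module.finrank k F := by
  show ∑ᶠ x ∈ (Spec.map (CommRingCat.ofHom (algebraMap k F))).base ⁻¹' {IsLocalRing.closedPoint k}, α x * _ = _
  have : (Spec.map (CommRingCat.ofHom (algebraMap k F))).base ⁻¹' {IsLocalRing.closedPoint k} = {IsLocalRing.closedPoint (F : Type u)} := by
    ext y; simp only [Set.mem_preimage, Set.mem_singleton_iff]
    exact iff_of_true (Subsingleton.elim _ _) (Subsingleton.elim _ _)
  rw [this]
  refine finsum_mem_singleton.trans ?_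
  have : AlgebraicCycle.mapCoeff (Spec.map (CommRingCat.ofHom (algebraMap k F))) (fun _ => (0 : ℤ)) (fun _ => (0 : ℤ))
      (IsLocalRing.closedPoint (F : Type u)) = Module.finrank k F := (if_pos rfl).trans (residueDegree_field k F _)
  exact congrArg (fun d : ℕ => α (IsLocalRing.closedPoint (F : Type u)) * (d : ℤ)) this

theorem map_ptNormSubgroup : (QsChow.ptNormSubgroup k K).map (degPt k) = AddSubgroup.closure
    {z | ∃ (F : IntermediateField k K), FiniteDimensional k F ∧ F ≠ ⊥ ∧ ∃ m : ℤ, z = m * Module.finrank k F} := by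
  classical
  rw [QsChow.ptNormSubgroup, AddMonoidHom.map_closure]
  congr 1
  ext z
  constructor
  · rintro ⟨c, ⟨F, hfd, hne, α, h, rfl⟩, rfl⟩
    exact ⟨F, hfd, hne, _, degPt_push k K F α h⟩
  · rintro ⟨F, hfd, hne, m, rfl⟩
    refine ⟨_, ⟨F, hfd, hne, Function.locallyFinsuppWithin.single (IsLocalRing.closedPoint (F : Type u)) m,
      fun y hy => absurd rfl hy, rfl⟩, ?_⟩
    rw [degPt_push]; simp

theorem finrank_lift_fixedField (L : IntermediateField k K) [FiniteDimensional k L] [IsGalois k L]
    (H : Subgroup (L ≃ₐ[k] L)) :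
    let F := IntermediateField.lift (IntermediateField.fixedField H)
    FiniteDimensional k F ∧ Module.finrank k F * Nat.card H = Module.finrank k L := by
  intro F
  let e := IntermediateField.liftAlgEquiv (IntermediateField.fixedField H)
  refine ⟨Module.Finite.equiv e.toLinearEquiv, ?_⟩
  rw [← e.toLinearEquiv.finrank_eq, ← IntermediateField.finrank_fixedField_eq_card H]
  exact Module.finrank_mul_finrank k _ L

theorem ne_bot_of_finrank_ne_one {F : IntermediateField k K} (h : Module.finrank k F ≠ 1) : F ≠ ⊥ := by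
  rintro rfl
  exact h IntermediateField.finrank_bot

theorem ptNormSubgroup_eq_top (L : IntermediateField k K) [FiniteDimensional k L] [IsGalois k L]
    (hL : ∀ p n : ℕ, p.Prime → Module.finrank k L ≠ p ^ n) : QsChow.ptNormSubgroup k K = ⊤ := by
  apply AddSubgroup.map_injective (degPt_bijective k).1
  rw [AddSubgroup.map_top_of_surjective _ (degPt_bijective k).2, map_ptNormSubgroup]
  set S := AddSubgroup.closure
    {z | ∃ (F : IntermediateField k K), FiniteDimensional k F ∧ F ≠ ⊥ ∧ ∃ m : ℤ, z = m * Module.finrank k F}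
  obtain ⟨a, ha⟩ := Int.subgroup_cyclic S
  have hpr : ∀ p : ℕ, p.Prime → ¬ (p : ℤ) ∣ a := by
    intro p hp hpa
    haveI : Fact p.Prime := ⟨hp⟩
    obtain ⟨P⟩ : Nonempty (Sylow p (L ≃ₐ[k] L)) := inferInstance
    obtain ⟨hfd, hdeg⟩ := finrank_lift_fixedField k K L P
    obtain ⟨e, he⟩ := P.isPGroup'.exists_card_eq
    set F := IntermediateField.lift (IntermediateField.fixedField (P : Subgroup (L ≃ₐ[k] L)))
    have hne : Module.finrank k F ≠ 1 := fun h1 => hL p e hp (by rw [← hdeg, h1, one_mul, he])
    have hmem : (Module.finrank k F : ℤ) ∈ S :=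
      AddSubgroup.subset_closure ⟨F, hfd, ne_bot_of_finrank_ne_one k K hne, 1, (one_mul _).symm⟩
    rw [ha, AddSubgroup.mem_closure_singleton] at hmem
    obtain ⟨t, ht⟩ := hmem
    have h1 : (p : ℤ) ∣ (Module.finrank k F : ℤ) := ht ▸ (by rw [smul_eq_mul]; exact hpa.mul_left t)
    have h2 := P.not_dvd_index
    apply h2
    have h3 : (P : Subgroup (L ≃ₐ[k] L)).index = Module.finrank k F := by
      have h4 := Subgroup.card_mul_index (P : Subgroup (L ≃ₐ[k] L))
      rw [IsGalois.card_aut_eq_finrank, ← hdeg, mul_comm (Module.finrank k F)] at h4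
      exact Nat.eq_of_mul_eq_mul_left Nat.card_pos h4
    rw [h3]
    exact Int.natCast_dvd_natCast.mp h1
  have h1 : a.natAbs = 1 := by
    by_contra h
    obtain ⟨p, hp, hpd⟩ := Nat.exists_prime_and_dvd h
    exact hpr p hp (Int.natCast_dvd.mpr hpd)
  rw [ha, eq_top_iff]
  intro z _
  rw [AddSubgroup.mem_closure_singleton]
  rcases Int.natAbs_eq a with h | h <;> rw [h1] at h
  · exact ⟨z, by simp [h]⟩
  · exact ⟨-z, by simp [h]⟩

theorem ptNormSubgroup_index (L : IntermediateField k K) [FiniteDimensional k L] [IsGalois k L]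
    (p n : ℕ) (hp : p.Prime) (hn : 1 ≤ n) (hL : Module.finrank k L = p ^ n)
    (hF : ∀ F : IntermediateField k K, FiniteDimensional k F → ∃ e : ℕ, Module.finrank k F = p ^ e) :
    (QsChow.ptNormSubgroup k K).index = p := by
  haveI : Fact p.Prime := ⟨hp⟩
  rw [← AddSubgroup.index_map_equiv (QsChow.ptNormSubgroup k K) (AddEquiv.ofBijective (degPt k) (degPt_bijective k))]
  show ((QsChow.ptNormSubgroup k K).map (degPt k)).index = p
  rw [map_ptNormSubgroup]
  suffices h : AddSubgroup.closure {z | ∃ (F : IntermediateField k K), FiniteDimensional k F ∧ F ≠ ⊥ ∧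
      ∃ m : ℤ, z = m * Module.finrank k F} = AddSubgroup.zmultiples (p : ℤ) by
    rw [h]; exact Int.index_zmultiples _
  refine le_antisymm ((AddSubgroup.closure_le _).mpr ?_) ?_
  · rintro z ⟨F, hfd, hne, m, rfl⟩
    obtain ⟨e, he⟩ := hF F hfd
    rcases e with _ | e
    · exact absurd (IntermediateField.finrank_eq_one_iff.mp he) hne
    · rw [SetLike.mem_coe, Int.mem_zmultiples_iff, he, pow_succ]
      push_cast
      exact (dvd_mul_left _ _).mul_left m
  · rw [AddSubgroup.zmultiples_le]
    obtain ⟨H, hH⟩ := Sylow.exists_subgroup_card_pow_prime (G := L ≃ₐ[k] L) p (n := n - 1)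
      (by rw [IsGalois.card_aut_eq_finrank, hL]; exact pow_dvd_pow p (by omega))
    obtain ⟨hfd, hdeg⟩ := finrank_lift_fixedField k K L H
    rw [hH, hL, show n = (n - 1) + 1 by omega, pow_succ', Nat.add_sub_cancel] at hdeg
    have hd := Nat.eq_of_mul_eq_mul_right (pow_pos hp.pos _) hdeg
    exact AddSubgroup.subset_closure ⟨_, hfd, ne_bot_of_finrank_ne_one k K (by rw [hd]; exact hp.ne_one), 1,
      by rw [hd, one_mul]⟩

end Groth.Agent.QsChow28
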